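import Cfsg.Agent.Lib.BoundedPres.SLnPres

/-!
The `2`-block of `SL₃(F)` and its images in `SL_n(F)`, for presentations of `SL_n(F)` with few
relations.
-/

set_option autoImplicit false

namespace CfsgLib.SLFewRels

open Equiv
open CfsgLib.BoundedPres
open CfsgLib.PresentSL3 (sT cT sT_sq sT_cT)

variable {F : Type*} [Field F]

/-- `SL₂` as the first block of `SL₃`. -/
def j2 : Matrix.SpecialLinearGroup (Fin 2) F →* Matrix.SpecialLinearGroup (Fin 3) F :=
  MonoidHom.mk' (fun y => ⟨!![y.1 0 0, y.1 0 1, 0; y.1 1 0, y.1 1 1, 0; 0, 0, 1], by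
      have h := y.2
      rw [Matrix.det_fin_two] at h
      simp [Matrix.det_fin_three]
      linear_combination h⟩) fun y y' => by
    apply Subtype.ext
    show _ = (!![y.1 0 0, y.1 0 1, 0; y.1 1 0, y.1 1 1, 0; 0, 0, 1] : Matrix (Fin 3) (Fin 3) F) *
      !![y'.1 0 0, y'.1 0 1, 0; y'.1 1 0, y'.1 1 1, 0; 0, 0, 1]
    ext i j
    fin_cases i <;> fin_cases j <;>
      simp [Matrix.mul_apply, Fin.sum_univ_three, Fin.sum_univ_two]

theorem coe_j2 (y : Matrix.SpecialLinearGroup (Fin 2) F) :
    ((j2 y : Matrix.SpecialLinearGroup (Fin 3) F) : Matrix (Fin 3) (Fin 3) F) =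
      !![y.1 0 0, y.1 0 1, 0; y.1 1 0, y.1 1 1, 0; 0, 0, 1] := rfl

theorem j2_upper (v : F) : j2 (Matrix.SpecialLinearGroup.transvection (show (0 : Fin 2) ≠ 1 by decide) v) =
    Matrix.SpecialLinearGroup.transvection (show (0 : Fin 3) ≠ 1 by decide) v := by
  apply Subtype.ext
  rw [coe_j2]
  ext i j
  fin_cases i <;> fin_cases j <;>
    simp [Matrix.SpecialLinearGroup.transvection, Matrix.transvection, Matrix.single]

theorem j2_lower (v : F) : j2 (Matrix.SpecialLinearGroup.transvection (show (1 : Fin 2) ≠ 0 by decide) v) =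
    Matrix.SpecialLinearGroup.transvection (show (1 : Fin 3) ≠ 0 by decide) v := by
  apply Subtype.ext
  rw [coe_j2]
  ext i j
  fin_cases i <;> fin_cases j <;>
    simp [Matrix.SpecialLinearGroup.transvection, Matrix.transvection, Matrix.single]

/-- Conjugation by the swap of the two coordinates. -/
def swapY (y : Matrix.SpecialLinearGroup (Fin 2) F) : Matrix.SpecialLinearGroup (Fin 2) F :=
  ⟨!![y.1 1 1, y.1 1 0; y.1 0 1, y.1 0 0], by
    have h := y.2
    rw [Matrix.det_fin_two] at h
    simp [Matrix.det_fin_two]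
    linear_combination h⟩

theorem coe_swapY (y : Matrix.SpecialLinearGroup (Fin 2) F) :
    ((swapY y : Matrix.SpecialLinearGroup (Fin 2) F) : Matrix (Fin 2) (Fin 2) F) =
      !![y.1 1 1, y.1 1 0; y.1 0 1, y.1 0 0] := rfl

theorem sT_inv : (sT : Matrix.SpecialLinearGroup (Fin 3) F)⁻¹ = sT := inv_eq_of_mul_eq_one_right sT_sq

theorem sT_j2 (y : Matrix.SpecialLinearGroup (Fin 2) F) : sT * j2 y * sT⁻¹ = j2 (swapY y) := by
  rw [sT_inv]
  apply Subtype.ext
  simp only [Matrix.SpecialLinearGroup.coe_mul, coe_j2, coe_swapY, CfsgLib.PresentSL3.coe_sT]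
  ext i j
  fin_cases i <;> fin_cases j <;> simp [Matrix.mul_apply, Fin.sum_univ_three]

/-- The good choice of the element of the block. -/
def GoodY (y : Matrix.SpecialLinearGroup (Fin 2) F) : Prop :=
  Subgroup.closure ({y, swapY y} : Set (Matrix.SpecialLinearGroup (Fin 2) F)) = ⊤ ∧
    j2 (swapY y) ∈ Subgroup.closure ({cT, j2 y} : Set (Matrix.SpecialLinearGroup (Fin 3) F))

section Target

variable {m : ℕ}

/-- An even permutation acts on the embedded block as it acts on the first two indices. -/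
theorem permSL_j2 (g : alternatingGroup (Fin (3 + m))) (e : Bool)
    (h0 : (g : Perm (Fin (3 + m))) (first3 m 0) = if e then first3 m 1 else first3 m 0)
    (h1 : (g : Perm (Fin (3 + m))) (first3 m 1) = if e then first3 m 0 else first3 m 1)
    (y : Matrix.SpecialLinearGroup (Fin 2) F) :
    permSL (3 + m) g * blockSL (3 + m) m rfl (j2 y) * (permSL (3 + m) g)⁻¹ =
      blockSL (3 + m) m rfl (if e then j2 (swapY y) else j2 y) := by
  have hE := first3_inj m
  let ε : Matrix.SpecialLinearGroup (Fin 3) F := if e then sT else 1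
  have hε : ∀ y : Matrix.SpecialLinearGroup (Fin 2) F, ε * j2 y * ε⁻¹ = if e then j2 (swapY y) else j2 y := by
    intro y; cases e <;> simp [ε, sT_j2]
  rw [← hε, map_mul, map_mul, map_inv]
  let B : Matrix.SpecialLinearGroup (Fin 3) F →* Matrix.SpecialLinearGroup (Fin (3 + m)) F :=
    blockSL (3 + m) m rfl
  let f₁ : Matrix.SpecialLinearGroup (Fin 2) F →* Matrix.SpecialLinearGroup (Fin (3 + m)) F :=
    (MulAut.conj (permSL (3 + m) g)).toMonoidHom.comp (B.comp j2)
  let f₂ : Matrix.SpecialLinearGroup (Fin 2) F →* Matrix.SpecialLinearGroup (Fin (3 + m)) F :=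
    (MulAut.conj (B ε)).toMonoidHom.comp (B.comp j2)
  have key : f₁.eqLocus f₂ = ⊤ := by
    refine CfsgLib.Linear.SL_eq_top_of_transvection_mem _ fun a b hab c => ?_
    show permSL (3 + m) g * B (j2 _) * (permSL (3 + m) g)⁻¹ = B ε * B (j2 _) * (B ε)⁻¹
    rw [← map_mul, ← map_inv B, ← map_mul]
    fin_cases a <;> fin_cases b <;> first | exact absurd rfl hab | skip
    all_goals cases e
    all_goals simp only [Bool.false_eq_true, if_false, if_true, ε] at h0 h1 ⊢
    · simp only [one_mul, inv_one, mul_one]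
      show _ * B (j2 (Matrix.SpecialLinearGroup.transvection (show (0 : Fin 2) ≠ 1 by decide) c)) * _ = B (j2 _)
      rw [j2_upper]
      simp only [B, blockSL_root, permSL_conj, h0, h1]
    · show _ * B (j2 (Matrix.SpecialLinearGroup.transvection (show (0 : Fin 2) ≠ 1 by decide) c)) * _ = B (_ * j2 _ * _)
      rw [j2_upper, sT_conj]
      simp only [B, blockSL_root, permSL_conj, h0, h1]
    · simp only [one_mul, inv_one, mul_one]
      show _ * B (j2 (Matrix.SpecialLinearGroup.transvection (show (1 : Fin 2) ≠ 0 by decide) c)) * _ = B (j2 _)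
      rw [j2_lower]
      simp only [B, blockSL_root, permSL_conj, h0, h1]
    · show _ * B (j2 (Matrix.SpecialLinearGroup.transvection (show (1 : Fin 2) ≠ 0 by decide) c)) * _ = B (_ * j2 _ * _)
      rw [j2_lower, show sT * Matrix.SpecialLinearGroup.transvection (show (1 : Fin 3) ≠ 0 by decide) c * sT⁻¹ =
          Matrix.SpecialLinearGroup.transvection (show (0 : Fin 3) ≠ 1 by decide) c by
        rw [← sT_conj c, sT_inv]
        simp only [← mul_assoc, sT_sq, one_mul]
        rw [mul_assoc, sT_sq, mul_one]]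
      simp only [B, blockSL_root, permSL_conj, h0, h1]
  exact (key.symm ▸ Subgroup.mem_top y : y ∈ f₁.eqLocus f₂)

end Target

section Abstract

variable {G : Type*} [Group G]

/-- Elements agreeing on generators agree on the generated subgroup. -/
theorem conj_eq_on {T : Type*} [Group T] (κ : T →* G) (s : Set T) (hs : Subgroup.closure s = ⊤) (a b : G)
    (h : ∀ y ∈ s, a * κ y * a⁻¹ = b * κ y * b⁻¹) (y : T) : a * κ y * a⁻¹ = b * κ y * b⁻¹ := by
  have hle : Subgroup.closure s ≤
      ((MulAut.conj a).toMonoidHom.comp κ).eqLocus ((MulAut.conj b).toMonoidHom.comp κ) := by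
    rw [Subgroup.closure_le]
    exact h
  exact (hle (hs ▸ Subgroup.mem_top y) :)

/-- Commutation of generators gives commutation of the generated subgroups. -/
theorem commute_of_closure {T : Type*} [Group T] (κ κ' : T →* G) (s : Set T) (hs : Subgroup.closure s = ⊤)
    (h : ∀ a ∈ s, ∀ b ∈ s, Commute (κ a) (κ' b)) (x y : T) : Commute (κ x) (κ' y) := by
  have h1 : ∀ b ∈ s, ∀ x, Commute (κ x) (κ' b) := by
    intro b hb x
    have hle : Subgroup.closure s ≤ (Subgroup.centralizer ({κ' b} : Set G)).comap κ := by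
      rw [Subgroup.closure_le]
      intro a ha
      show κ a ∈ Subgroup.centralizer ({κ' b} : Set G)
      rw [Subgroup.mem_centralizer_singleton_iff]
      exact (h a ha b hb).eq
    exact Subgroup.mem_centralizer_singleton_iff.1 (hle (hs ▸ Subgroup.mem_top x))
  have hle : Subgroup.closure s ≤ (Subgroup.centralizer ({κ x} : Set G)).comap κ' := by
    rw [Subgroup.closure_le]
    intro b hb
    show κ' b ∈ Subgroup.centralizer ({κ x} : Set G)
    rw [Subgroup.mem_centralizer_singleton_iff]
    exact (h1 b hb x).eq.symm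
  exact (Subgroup.mem_centralizer_singleton_iff.1 (hle (hs ▸ Subgroup.mem_top y)) : Commute (κ' y) (κ x)).symm

end Abstract

end CfsgLib.SLFewRels
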