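import Cfsg.Agent.Lib.SLFewRels.Block

/-!
A Borel element of the block and the rotation generate the elements of the block.
-/

set_option autoImplicit false

namespace CfsgLib.SLFewRels

open CfsgLib.PresentSL3 (cT cT_cube)

variable {F : Type*} [Field F]

/-- An upper unitriangular matrix. -/
def uni (a b c : F) : Matrix.SpecialLinearGroup (Fin 3) F :=
  ⟨!![1, a, c; 0, 1, b; 0, 0, 1], by simp [Matrix.det_fin_three]⟩

theorem coe_uni (a b c : F) :
    ((uni a b c : Matrix.SpecialLinearGroup (Fin 3) F) : Matrix (Fin 3) (Fin 3) F) =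
      !![1, a, c; 0, 1, b; 0, 0, 1] := rfl

theorem uni_mul (a b c a' b' c' : F) : uni a b c * uni a' b' c' = uni (a + a') (b + b') (c + c' + a * b') := by
  apply Subtype.ext
  simp only [Matrix.SpecialLinearGroup.coe_mul, coe_uni]
  ext i j
  fin_cases i <;> fin_cases j <;> simp [Matrix.mul_apply, Fin.sum_univ_three] <;> ring

theorem uni_zero : uni (0 : F) 0 0 = 1 := by
  apply Subtype.ext
  rw [coe_uni]
  ext i j
  fin_cases i <;> fin_cases j <;> simp

theorem uni_inv (a b c : F) : (uni a b c)⁻¹ = uni (-a) (-b) (a * b - c) := by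
  refine inv_eq_of_mul_eq_one_right ?_
  rw [uni_mul, ← uni_zero]
  congr 1 <;> ring

theorem uni_upper (a : F) : uni a 0 0 = Matrix.SpecialLinearGroup.transvection (show (0 : Fin 3) ≠ 1 by decide) a := by
  apply Subtype.ext
  rw [coe_uni]
  ext i j
  fin_cases i <;> fin_cases j <;> simp [Matrix.SpecialLinearGroup.transvection, Matrix.transvection, Matrix.single]

theorem uni_middle (b : F) : uni 0 b 0 = Matrix.SpecialLinearGroup.transvection (show (1 : Fin 3) ≠ 2 by decide) b := by
  apply Subtype.ext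
  rw [coe_uni]
  ext i j
  fin_cases i <;> fin_cases j <;> simp [Matrix.SpecialLinearGroup.transvection, Matrix.transvection, Matrix.single]

/-- An upper triangular element of `SL₂`. -/
def borelY (w : Fˣ) (β : F) : Matrix.SpecialLinearGroup (Fin 2) F :=
  ⟨!![(w : F), β; 0, ((w⁻¹ : Fˣ) : F)], by simp [Matrix.det_fin_two]⟩

theorem coe_borelY (w : Fˣ) (β : F) :
    ((borelY w β : Matrix.SpecialLinearGroup (Fin 2) F) : Matrix (Fin 2) (Fin 2) F) =
      !![(w : F), β; 0, ((w⁻¹ : Fˣ) : F)] := rfl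

theorem coe_j2_borelY (w : Fˣ) (β : F) :
    ((j2 (borelY w β) : Matrix.SpecialLinearGroup (Fin 3) F) : Matrix (Fin 3) (Fin 3) F) =
      !![(w : F), β, 0; 0, (w : F)⁻¹, 0; 0, 0, 1] := by
  rw [coe_j2, coe_borelY]
  simp

/-- The conjugate in the second block. -/
def midY (w : Fˣ) (β : F) : Matrix.SpecialLinearGroup (Fin 3) F := cT * j2 (borelY w β) * cT⁻¹

theorem coe_midY (w : Fˣ) (β : F) :
    ((midY w β : Matrix.SpecialLinearGroup (Fin 3) F) : Matrix (Fin 3) (Fin 3) F) =
      !![1, 0, 0; 0, (w : F), β; 0, 0, (w : F)⁻¹] := by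
  have e : (cT : Matrix.SpecialLinearGroup (Fin 3) F)⁻¹ = cT * cT :=
    inv_eq_of_mul_eq_one_right (by rw [← mul_assoc, cT_cube])
  simp only [midY, e, Matrix.SpecialLinearGroup.coe_mul, coe_j2_borelY, CfsgLib.PresentSL3.coe_cT]
  ext i j
  fin_cases i <;> fin_cases j <;> simp [Matrix.mul_apply, Fin.sum_univ_three]

theorem borel_conj (w : Fˣ) (β a b c : F) : j2 (borelY w β) * uni a b c * (j2 (borelY w β))⁻¹ =
    uni ((w : F) * w * a) (b / w) ((w : F) * c + β * b) := by
  rw [mul_inv_eq_iff_eq_mul]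
  apply Subtype.ext
  simp only [Matrix.SpecialLinearGroup.coe_mul, coe_uni, coe_j2_borelY]
  have := w.ne_zero
  ext i j
  fin_cases i <;> fin_cases j <;> simp [Matrix.mul_apply, Fin.sum_univ_three] <;> field_simp <;> ring

theorem mid_conj (w : Fˣ) (β a b c : F) : midY w β * uni a b c * (midY w β)⁻¹ =
    uni (a / w) ((w : F) * w * b) ((w : F) * c - a * β) := by
  rw [mul_inv_eq_iff_eq_mul]
  apply Subtype.ext
  simp only [Matrix.SpecialLinearGroup.coe_mul, coe_uni, coe_midY]
  have := w.ne_zero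
  ext i j
  fin_cases i <;> fin_cases j <;> simp [Matrix.mul_apply, Fin.sum_univ_three] <;> field_simp <;> ring

theorem borel_commutator (w : Fˣ) (β : F) :
    j2 (borelY w β) * midY w β * (j2 (borelY w β))⁻¹ * (midY w β)⁻¹ =
      uni (β * ((w : F) - 1)) (β * (1 - (w : F))) ((w : F) * (β ^ 2 - β * ((w : F) - 1) * β)) := by
  rw [mul_inv_eq_iff_eq_mul, mul_inv_eq_iff_eq_mul]
  apply Subtype.ext
  simp only [Matrix.SpecialLinearGroup.coe_mul, coe_uni, coe_j2_borelY, coe_midY]
  have := w.ne_zero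
  ext i j
  fin_cases i <;> fin_cases j <;> simp [Matrix.mul_apply, Fin.sum_univ_three] <;> field_simp <;> ring

/-- The Borel element and the rotation generate the block. -/
theorem borel_generates [Fintype F] {w : Fˣ} (hgen : ∀ x : Fˣ, x ∈ Subgroup.zpowers w) {β : F} (hβ : β ≠ 0)
    (hw1 : (w : F) ≠ 1) (hw3 : (w : F) ^ 3 ≠ 1) (x : Matrix.SpecialLinearGroup (Fin 2) F) :
    j2 x ∈ Subgroup.closure ({cT, j2 (borelY w β)} : Set (Matrix.SpecialLinearGroup (Fin 3) F)) := by
  classical
  have hw0 : (w : F) ≠ 0 := w.ne_zero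
  set K := Subgroup.closure ({cT, j2 (borelY w β)} : Set (Matrix.SpecialLinearGroup (Fin 3) F))
  have hc : cT ∈ K := Subgroup.subset_closure (by simp)
  have hA : j2 (borelY w β) ∈ K := Subgroup.subset_closure (by simp)
  have hB : midY w β ∈ K := K.mul_mem (K.mul_mem hc hA) (K.inv_mem hc)
  let M : Set (F × F) := {q | ∃ c, uni q.1 q.2 c ∈ K}
  have hadd : ∀ {a b a' b'}, (a, b) ∈ M → (a', b') ∈ M → (a + a', b + b') ∈ M := by
    rintro a b a' b' ⟨c, hc⟩ ⟨c', hc'⟩
    exact ⟨_, uni_mul a b c a' b' c' ▸ K.mul_mem hc hc'⟩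
  have hneg : ∀ {a b}, (a, b) ∈ M → (-a, -b) ∈ M := by
    rintro a b ⟨c, hc⟩
    exact ⟨_, uni_inv a b c ▸ K.inv_mem hc⟩
  have hcA : ∀ {a b}, (a, b) ∈ M → ((w : F) * w * a, b / w) ∈ M := by
    rintro a b ⟨c, hc'⟩
    exact ⟨_, borel_conj w β a b c ▸ K.mul_mem (K.mul_mem hA hc') (K.inv_mem hA)⟩
  have hcB : ∀ {a b}, (a, b) ∈ M → (a / w, (w : F) * w * b) ∈ M := by
    rintro a b ⟨c, hc'⟩
    exact ⟨_, mid_conj w β a b c ▸ K.mul_mem (K.mul_mem hB hc') (K.inv_mem hB)⟩
  have hN : (β * ((w : F) - 1), β * (1 - (w : F))) ∈ M :=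
    ⟨_, borel_commutator w β ▸ K.mul_mem (K.mul_mem (K.mul_mem hA hB) (K.inv_mem hA)) (K.inv_mem hB)⟩
  have h1 : β * ((w : F) - 1) ≠ 0 := mul_ne_zero hβ (sub_ne_zero.2 hw1)
  have h2 : β * (1 - (w : F)) ≠ 0 := mul_ne_zero hβ (sub_ne_zero.2 (Ne.symm hw1))
  have hw3' : (w : F) ^ 3 - 1 ≠ 0 := sub_ne_zero.2 hw3
  obtain ⟨d, hd0, hd⟩ : ∃ d, d ≠ 0 ∧ ((0 : F), d) ∈ M := by
    refine ⟨((w : F) ^ 3 - 1) * (β * (1 - (w : F))), mul_ne_zero hw3' h2, ?_⟩
    have h := hadd (hcA (hcB (hcB hN))) (hneg hN)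
    convert h using 2
    · field_simp; ring
    · field_simp; ring
  obtain ⟨d', hd0', hd'⟩ : ∃ d, d ≠ 0 ∧ (d, (0 : F)) ∈ M := by
    refine ⟨((w : F) ^ 3 - 1) * (β * ((w : F) - 1)), mul_ne_zero hw3' h1, ?_⟩
    have h := hadd (hcB (hcA (hcA hN))) (hneg hN)
    convert h using 2
    · field_simp; ring
    · field_simp; ring
  obtain ⟨p, hp⟩ := CharP.exists F
  haveI : Fact p.Prime := ⟨CharP.char_is_prime F p⟩
  obtain ⟨e, -, hF⟩ := FiniteField.card F p
  obtain ⟨D⟩ := CfsgLib.PresentSL3.exists_D hF hgen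
  have hzero : ((0 : F), (0 : F)) ∈ M := ⟨0, uni_zero (F := F) ▸ K.one_mem⟩
  have hallR : ∀ b : F, ((0 : F), b) ∈ M := by
    intro b
    have hS : ∀ P, Polynomial.aeval (w : F)⁻¹ P ∈ {t : F | ((0 : F), t * d) ∈ M} :=
      CfsgLib.PresentSL3.aeval_mem _ (by show ((0 : F), 0 * d) ∈ M; rw [zero_mul]; exact hzero)
        (fun a ha b hb => by
          show ((0 : F), (a + b) * d) ∈ M
          have := hadd ha hb
          rwa [add_zero, ← add_mul] at this)
        (fun l => by
          have hl : ((0 : F), ((w : F)⁻¹) ^ l * d) ∈ M := by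
            induction l with
            | zero => simpa using hd
            | succ l ih =>
              have := hcA ih
              rw [mul_zero] at this
              rwa [pow_succ, mul_assoc, mul_comm ((w : F)⁻¹) d, ← mul_assoc, ← div_eq_mul_inv]
          refine ⟨hl, ?_⟩
          show ((0 : F), -((w : F)⁻¹ ^ l) * d) ∈ M
          have := hneg hl
          rwa [neg_zero, ← neg_mul] at this)
    obtain ⟨P, hP⟩ := D.surj (b / d)
    have := hS P
    simp only at hP
    rw [hP] at this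
    rwa [Set.mem_setOf_eq, div_mul_cancel₀ _ hd0] at this
  have hallL : ∀ a : F, (a, (0 : F)) ∈ M := by
    intro a
    have hS : ∀ P, Polynomial.aeval (w : F)⁻¹ P ∈ {t : F | (t * d', (0 : F)) ∈ M} :=
      CfsgLib.PresentSL3.aeval_mem _ (by show (0 * d', (0 : F)) ∈ M; rw [zero_mul]; exact hzero)
        (fun a ha b hb => by
          show ((a + b) * d', (0 : F)) ∈ M
          have := hadd ha hb
          rwa [add_zero, ← add_mul] at this)
        (fun l => by
          have hl : (((w : F)⁻¹) ^ l * d', (0 : F)) ∈ M := by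
            induction l with
            | zero => simpa using hd'
            | succ l ih =>
              have := hcB ih
              rw [mul_zero] at this
              rwa [pow_succ, mul_assoc, mul_comm ((w : F)⁻¹) d', ← mul_assoc, ← div_eq_mul_inv]
          refine ⟨hl, ?_⟩
          show (-((w : F)⁻¹ ^ l) * d', (0 : F)) ∈ M
          have := hneg hl
          rwa [neg_zero, ← neg_mul] at this)
    obtain ⟨P, hP⟩ := D.surj (a / d')
    have := hS P
    simp only at hP
    rw [hP] at this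
    rwa [Set.mem_setOf_eq, div_mul_cancel₀ _ hd0'] at this
  have hcorner : ∀ c : F, uni 0 0 c ∈ K := by
    intro c
    obtain ⟨s, hs⟩ := hallL c
    obtain ⟨t, ht⟩ := hallR 1
    have := K.mul_mem (K.mul_mem (K.mul_mem hs ht) (K.inv_mem hs)) (K.inv_mem ht)
    simp only [uni_inv, uni_mul] at this
    convert this using 2 <;> ring
  have hup : ∀ a : F, uni a 0 0 ∈ K := by
    intro a
    obtain ⟨s, hs⟩ := hallL a
    have := K.mul_mem hs (hcorner (-s))
    rw [uni_mul] at this
    convert this using 2 <;> ring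
  have hmid : ∀ b : F, uni 0 b 0 ∈ K := by
    intro b
    obtain ⟨s, hs⟩ := hallR b
    have := K.mul_mem hs (hcorner (-s))
    rw [uni_mul] at this
    convert this using 2 <;> ring
  have hlow : ∀ u : F, Matrix.SpecialLinearGroup.transvection (show (1 : Fin 3) ≠ 0 by decide) u ∈ K := by
    intro u
    have hconj : ∀ {a b : Fin 3} (hab : a ≠ b) (v : F),
        Matrix.SpecialLinearGroup.transvection hab v ∈ K →
        Matrix.SpecialLinearGroup.transvection (show a + 1 ≠ b + 1 from fun e => hab (add_right_cancel e)) v ∈ K := by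
      intro a b hab v h
      rw [← CfsgLib.BoundedPres.cT_transvection hab]
      exact K.mul_mem (K.mul_mem hc h) (K.inv_mem hc)
    have h12 : Matrix.SpecialLinearGroup.transvection (show (1 : Fin 3) ≠ 2 by decide) (1 : F) ∈ K :=
      uni_middle (1 : F) ▸ hmid 1
    have h20 : Matrix.SpecialLinearGroup.transvection (show (2 : Fin 3) ≠ 0 by decide) u ∈ K :=
      hconj _ u (uni_middle u ▸ hmid u)
    have e := CfsgLib.BoundedPres.transvection_step (F := F) (show (1 : Fin 3) ≠ 2 by decide)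
      (show (2 : Fin 3) ≠ 0 by decide) (show (1 : Fin 3) ≠ 0 by decide) 1 u
    rw [one_mul] at e
    have := K.mul_mem (K.mul_mem (K.mul_mem h12 h20) (K.inv_mem h12)) (K.inv_mem h20)
    rw [e] at this
    simpa [mul_assoc] using this
  have : (Subgroup.comap j2 K) = ⊤ := CfsgLib.Linear.SL_eq_top_of_transvection_mem _ fun a b hab c => by
    show j2 _ ∈ K
    fin_cases a <;> fin_cases b <;> first | exact absurd rfl hab | skip
    · show j2 (Matrix.SpecialLinearGroup.transvection (show (0 : Fin 2) ≠ 1 by decide) c) ∈ K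
      rw [j2_upper, ← uni_upper]
      exact hup c
    · show j2 (Matrix.SpecialLinearGroup.transvection (show (1 : Fin 2) ≠ 0 by decide) c) ∈ K
      rw [j2_lower]
      exact hlow c
  exact (this.symm ▸ Subgroup.mem_top x : x ∈ Subgroup.comap j2 K)

end CfsgLib.SLFewRels
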