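import Cfsg.Agent.Lib.SLFewRels.Block

/-!
The bound for a group generated by images of `SL₃(F)` and an alternating group subject to three
further relations.
-/

set_option autoImplicit false

namespace CfsgLib.SLFewRels

open Equiv
open CfsgLib.BoundedPres
open CfsgLib.PresentSL3 (sT cT dgT sT_sq sT_cT cT_cube)

variable {m : ℕ}

/-- The first pair and the rest. -/
def pairEquiv (m : ℕ) : Fin 2 ⊕ Fin (m + 1) ≃ Fin (3 + m) :=
  finSumFinEquiv.trans (finCongr (by omega))

theorem pairEquiv_zero (m : ℕ) : pairEquiv m (Sum.inl 0) = first3 m 0 := Fin.ext (by simp [pairEquiv])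

theorem pairEquiv_one (m : ℕ) : pairEquiv m (Sum.inl 1) = first3 m 1 := Fin.ext (by simp [pairEquiv])

theorem pairEquiv_two (m : ℕ) : pairEquiv m (Sum.inr 0) = first3 m 2 := Fin.ext (by simp [pairEquiv])

theorem val_pairEquiv_inr (m : ℕ) (j : Fin (m + 1)) : (pairEquiv m (Sum.inr j) : ℕ) = 2 + j := by
  simp [pairEquiv]

/-- The sign as a permutation of two points. -/
def signTwo (m : ℕ) : Perm (Fin (m + 1)) →* Perm (Fin 2) :=
  MonoidHom.mk' (fun π => if Perm.sign π = 1 then 1 else Equiv.swap 0 1) fun a b => by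
    rcases Int.units_eq_one_or (Perm.sign a) with ha | ha <;>
      rcases Int.units_eq_one_or (Perm.sign b) with hb | hb <;> simp [map_mul, ha, hb]

theorem sign_signTwo (π : Perm (Fin (m + 1))) : Perm.sign (signTwo m π) = Perm.sign π := by
  show Perm.sign (if Perm.sign π = 1 then (1 : Perm (Fin 2)) else Equiv.swap 0 1) = _
  rcases Int.units_eq_one_or (Perm.sign π) with ha | ha <;> simp [ha]

/-- A permutation of the remaining points completed to an even one. -/
def liftEven (m : ℕ) : Perm (Fin (m + 1)) →* alternatingGroup (Fin (3 + m)) :=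
  MonoidHom.mk' (fun π => ⟨(pairEquiv m).permCongr (Perm.sumCongr (signTwo m π) π), by
      rw [Perm.mem_alternatingGroup, Perm.sign_permCongr, Perm.sign_sumCongr, sign_signTwo]
      exact Int.units_mul_self _⟩) fun a b => by
    apply Subtype.ext
    ext x
    obtain ⟨x, rfl⟩ := (pairEquiv m).surjective x
    simp [Equiv.permCongr_apply, map_mul]

theorem liftEven_apply (π : Perm (Fin (m + 1))) (x : Fin 2 ⊕ Fin (m + 1)) :
    (liftEven m π : Perm (Fin (3 + m))) (pairEquiv m x) = pairEquiv m (Sum.map (signTwo m π) π x) := by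
  show (pairEquiv m).permCongr (Perm.sumCongr (signTwo m π) π) (pairEquiv m x) = _
  simp [Equiv.permCongr_apply]

theorem val_revA (hm : 1 ≤ m) (z : Fin (3 + m)) :
    (((revA m hm : Perm (Fin (3 + m))) z : Fin (3 + m)) : ℕ) =
      (if (z : ℕ) = 0 then (1 : ℕ) else if (z : ℕ) = 1 then (0 : ℕ) else if (z : ℕ) = 2 then (3 : ℕ) else
        if (z : ℕ) = 3 then (2 : ℕ) else (z : ℕ)) := by
  simp only [revA, coe_dswap, Perm.mul_apply, Equiv.swap_apply_def, Fin.ext_iff, Fin.val_castLE,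
    Fin.val_zero, Fin.val_one, Fin.val_two, apply_ite Fin.val]
  split_ifs <;> first | omega | contradiction

theorem val_oppA (hm : 1 ≤ m) (z : Fin (3 + m)) :
    (((oppA m hm : Perm (Fin (3 + m))) z : Fin (3 + m)) : ℕ) =
      (if (z : ℕ) = 0 then (2 : ℕ) else if (z : ℕ) = 2 then (0 : ℕ) else if (z : ℕ) = 1 then (3 : ℕ) else
        if (z : ℕ) = 3 then (1 : ℕ) else (z : ℕ)) := by
  simp only [oppA, coe_dswap, Perm.mul_apply, Equiv.swap_apply_def, Fin.ext_iff, Fin.val_castLE,
    Fin.val_zero, Fin.val_one, Fin.val_two, apply_ite Fin.val]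
  split_ifs <;> first | omega | contradiction

theorem val_oppA' (hm : 1 ≤ m) (z : Fin (3 + m)) :
    (((oppA' m hm : Perm (Fin (3 + m))) z : Fin (3 + m)) : ℕ) =
      (if (z : ℕ) = 0 then (3 : ℕ) else if (z : ℕ) = 3 then (0 : ℕ) else if (z : ℕ) = 1 then (2 : ℕ) else
        if (z : ℕ) = 2 then (1 : ℕ) else (z : ℕ)) := by
  simp only [oppA', coe_dswap, Perm.mul_apply, Equiv.swap_apply_def, Fin.ext_iff, Fin.val_castLE,
    Fin.val_zero, Fin.val_one, Fin.val_two, apply_ite Fin.val]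
  split_ifs <;> first | omega | contradiction

theorem revA_eq (k : ℕ) (hm : 1 ≤ k + 1) : revA (k + 1) hm = liftEven (k + 1) (Equiv.swap 0 1) := by
  apply Subtype.ext
  refine Equiv.ext fun x => ?_
  obtain ⟨x, rfl⟩ := (pairEquiv (k + 1)).surjective x
  apply Fin.ext
  rw [val_revA, liftEven_apply]
  have hs : signTwo (k + 1) (Equiv.swap 0 1) = Equiv.swap 0 1 := by
    show (if Perm.sign (Equiv.swap (0 : Fin (k + 2)) 1) = 1 then _ else _) = _
    rw [Perm.sign_swap (by simp), if_neg (by decide)]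
  rw [hs]
  rcases x with x | x
  · fin_cases x <;> simp [pairEquiv_zero, pairEquiv_one]
  · rw [Sum.map_inr, val_pairEquiv_inr, val_pairEquiv_inr]
    rcases eq_or_ne x 0 with rfl | h0
    · simp
    rcases eq_or_ne x 1 with rfl | h1
    · simp
    rw [Equiv.swap_apply_of_ne_of_ne h0 h1]
    have e0 : (x : ℕ) ≠ 0 := fun e => h0 (Fin.ext e)
    have e1 : (x : ℕ) ≠ 1 := fun e => h1 (Fin.ext (by simp [e]))
    split_ifs <;> first | omega | contradiction

/-- The long cycle fixing the first of the remaining points. -/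
def rotRest (k : ℕ) : Perm (Fin (k + 2)) := Perm.decomposeFin.symm (0, finRotate (k + 1))

theorem rotRest_zero (k : ℕ) : rotRest k 0 = 0 := Perm.decomposeFin_symm_apply_zero _ _

theorem rotRest_succ (k : ℕ) (j : Fin (k + 1)) : rotRest k j.succ = (finRotate (k + 1) j).succ := by
  rw [rotRest, Perm.decomposeFin_symm_apply_succ]
  simp

theorem closure_rest (k : ℕ) :
    Subgroup.closure ({Equiv.swap 0 1, rotRest k} : Set (Perm (Fin (k + 2)))) = ⊤ := by
  set H := Subgroup.closure ({Equiv.swap 0 1, rotRest k} : Set (Perm (Fin (k + 2))))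
  have hr : rotRest k ∈ H := Subgroup.subset_closure (by simp)
  have hnat : ∀ j (hj : j < k + 1), Equiv.swap (0 : Fin (k + 2)) (Fin.succ ⟨j, hj⟩) ∈ H := by
    intro j
    induction j with
    | zero => intro _; exact Subgroup.subset_closure (by left; rfl)
    | succ j ih =>
      intro hj
      have h := H.mul_mem (H.mul_mem hr (ih (by omega))) (H.inv_mem hr)
      rw [← Equiv.swap_apply_apply, rotRest_zero, rotRest_succ] at h
      convert h using 3
      apply Fin.ext
      rw [finRotate_succ_apply, Fin.val_add_one_of_lt]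
      exact Fin.lt_def.2 (by simp; omega)
  have hall : ∀ i, Equiv.swap (0 : Fin (k + 2)) i ∈ H := by
    intro i
    induction i using Fin.cases with
    | zero => rw [Equiv.swap_self]; exact H.one_mem
    | succ j => exact hnat j j.2
  rw [eq_top_iff, ← Equiv.Perm.closure_isSwap, Subgroup.closure_le]
  rintro _ ⟨a, b, hab, rfl⟩
  by_cases ha : a = 0
  · subst ha; exact hall b
  by_cases hb : b = 0
  · subst hb; rw [Equiv.swap_comm]; exact hall a
  have h := H.mul_mem (H.mul_mem (hall a) (hall b)) (H.inv_mem (hall a))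
  rwa [← Equiv.swap_apply_apply, Equiv.swap_apply_left,
    Equiv.swap_apply_of_ne_of_ne hb (Ne.symm hab)] at h

theorem fixed_mem (g : alternatingGroup (Fin (3 + m)))
    (g0 : (g : Perm (Fin (3 + m))) (first3 m 0) = first3 m 0)
    (g1 : (g : Perm (Fin (3 + m))) (first3 m 1) = first3 m 1) : ∃ π, liftEven m π = g := by
  set σ := (pairEquiv m).symm.permCongr (g : Perm (Fin (3 + m))) with hσ
  have hfix : ∀ x : Fin 2, σ (Sum.inl x) = Sum.inl x := by
    intro x
    fin_cases x
    · simp [σ, Equiv.permCongr_apply, pairEquiv_zero, g0, Equiv.symm_apply_eq]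
    · simp [σ, Equiv.permCongr_apply, pairEquiv_one, g1, Equiv.symm_apply_eq]
  obtain ⟨⟨s, π⟩, hsp⟩ := Perm.mem_sumCongrHom_range_of_perm_mapsTo_inl (σ := σ) (by
    rintro _ ⟨x, rfl⟩
    exact ⟨x, (hfix x).symm⟩)
  have hsp' : Perm.sumCongr s π = σ := hsp
  have hs : s = 1 := by
    refine Equiv.ext fun x => ?_
    have := hfix x
    rw [← hsp', Perm.sumCongr_apply, Sum.map_inl] at this
    exact Sum.inl_injective this
  have hsign : Perm.sign π = 1 := by
    have h := congrArg Perm.sign hsp'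
    rw [Perm.sign_sumCongr, hs, map_one, one_mul, hσ, Perm.sign_permCongr, Perm.mem_alternatingGroup.1 g.2] at h
    exact h
  refine ⟨π, Subtype.ext ?_⟩
  show (pairEquiv m).permCongr (Perm.sumCongr (signTwo m π) π) = _
  rw [show signTwo m π = (1 : Perm (Fin 2)) from (if_pos hsign), ← hs, hsp', hσ]
  refine Equiv.ext fun x => ?_
  simp [Equiv.permCongr_apply]

/-- The element for the long cycle. -/
def aA (k : ℕ) : alternatingGroup (Fin (3 + (k + 1))) := liftEven (k + 1) (rotRest k)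

/-- Whether the long cycle swaps the first pair. -/
def aFlag (k : ℕ) : Bool := decide (Perm.sign (rotRest k) ≠ 1)

theorem aA_first (k : ℕ) :
    (aA k : Perm (Fin (3 + (k + 1)))) (first3 (k + 1) 0) =
        (if aFlag k then first3 (k + 1) 1 else first3 (k + 1) 0) ∧
      (aA k : Perm (Fin (3 + (k + 1)))) (first3 (k + 1) 1) =
        (if aFlag k then first3 (k + 1) 0 else first3 (k + 1) 1) := by
  simp only [← pairEquiv_zero, ← pairEquiv_one, aA, liftEven_apply, Sum.map_inl]
  have hs : signTwo (k + 1) (rotRest k) =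
      if Perm.sign (rotRest k) = 1 then (1 : Perm (Fin 2)) else Equiv.swap 0 1 := rfl
  rw [hs]
  by_cases h : Perm.sign (rotRest k) = 1 <;> simp [aFlag, h]

theorem aA_cycA (k : ℕ) :
    aA k * cycA (k + 1) * (aA k)⁻¹ = if aFlag k then cycA (k + 1) * cycA (k + 1) else cycA (k + 1) := by
  rw [mul_inv_eq_iff_eq_mul]
  apply Subtype.ext
  refine Equiv.ext fun x => ?_
  obtain ⟨a0, a1⟩ := aA_first k
  have a2 : (aA k : Perm (Fin (3 + (k + 1)))) (first3 (k + 1) 2) = first3 (k + 1) 2 := by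
    rw [← pairEquiv_two, aA, liftEven_apply, Sum.map_inr, rotRest_zero]
  have hfix : ∀ z : Fin (3 + (k + 1)), 3 ≤ (z : ℕ) → (cycA (k + 1) : Perm (Fin (3 + (k + 1)))) z = z := by
    intro z hz
    apply Fin.ext
    simp only [cycA, coe_dswap, Perm.mul_apply, Equiv.swap_apply_def, Fin.ext_iff, Fin.val_castLE,
      Fin.val_zero, Fin.val_one, Fin.val_two, apply_ite Fin.val]
    split_ifs <;> first | omega | contradiction
  by_cases hx : (x : ℕ) < 3
  · obtain ⟨t, rfl⟩ : ∃ t : Fin 3, first3 (k + 1) t = x := ⟨⟨x, hx⟩, Fin.ext rfl⟩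
    have c0 : (cycA (k + 1) : Perm (Fin (3 + (k + 1)))) (first3 (k + 1) 0) = first3 (k + 1) 1 := cycA_apply 0
    have c1 : (cycA (k + 1) : Perm (Fin (3 + (k + 1)))) (first3 (k + 1) 1) = first3 (k + 1) 2 := cycA_apply 1
    have c2 : (cycA (k + 1) : Perm (Fin (3 + (k + 1)))) (first3 (k + 1) 2) = first3 (k + 1) 0 := cycA_apply 2
    cases hfl : aFlag k <;> simp only [hfl, Bool.false_eq_true, if_false, if_true] at a0 a1 ⊢ <;>
      simp only [Subgroup.coe_mul, Perm.mul_apply] <;> fin_cases t <;>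
      dsimp only [Fin.zero_eta, Fin.mk_one, Fin.reduceFinMk] <;> simp only [c0, c1, c2, a0, a1, a2]
  · obtain ⟨y, hy⟩ := (pairEquiv (k + 1)).surjective x
    have hax : 3 ≤ ((aA k : Perm (Fin (3 + (k + 1)))) x : ℕ) := by
      rcases y with y | y
      · have := congrArg Fin.val hy
        fin_cases y <;> simp [pairEquiv] at this <;> omega
      · rw [← hy, aA, liftEven_apply, Sum.map_inr, val_pairEquiv_inr]
        have h := congrArg Fin.val hy
        rw [val_pairEquiv_inr] at h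
        obtain ⟨j, rfl⟩ : ∃ j : Fin (k + 1), j.succ = y :=
          ⟨y.pred (fun e => by simp [e] at h; omega), Fin.succ_pred _ _⟩
        rw [rotRest_succ, Fin.val_succ]
        omega
    cases aFlag k <;> simp [Perm.mul_apply, hfix x (by omega), hfix _ hax]

variable {F : Type*} [Field F] {G : Type*} [Group G]

theorem swapY_swapY (y : Matrix.SpecialLinearGroup (Fin 2) F) : swapY (swapY y) = y := by
  apply Subtype.ext
  ext i j
  fin_cases i <;> fin_cases j <;> simp [coe_swapY]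

/-- The action of an element on the first pair and on the block. -/
def Acts (ι : Matrix.SpecialLinearGroup (Fin 3) F →* G) (ψ : alternatingGroup (Fin (3 + m)) →* G)
    (g : alternatingGroup (Fin (3 + m))) : Prop :=
  ∃ e : Bool, (g : Perm (Fin (3 + m))) (first3 m 0) = (if e then first3 m 1 else first3 m 0) ∧
    (g : Perm (Fin (3 + m))) (first3 m 1) = (if e then first3 m 0 else first3 m 1) ∧
    ∀ y, ψ g * ι (j2 y) * (ψ g)⁻¹ = ι (if e then j2 (swapY y) else j2 y)

/-- The elements acting correctly form a subgroup. -/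
def actsSub (ι : Matrix.SpecialLinearGroup (Fin 3) F →* G) (ψ : alternatingGroup (Fin (3 + m)) →* G) :
    Subgroup (alternatingGroup (Fin (3 + m))) where
  carrier := {g | Acts ι ψ g}
  one_mem' := ⟨false, by simp⟩
  mul_mem' := by
    rintro g g' ⟨e, a0, a1, ha⟩ ⟨e', b0, b1, hb⟩
    refine ⟨xor e e', ?_, ?_, fun y => ?_⟩
    · rw [Subgroup.coe_mul, Perm.mul_apply, b0]; cases e <;> cases e' <;> simp_all
    · rw [Subgroup.coe_mul, Perm.mul_apply, b1]; cases e <;> cases e' <;> simp_all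
    · rw [map_mul, show ψ g * ψ g' * ι (j2 y) * (ψ g * ψ g')⁻¹ =
        ψ g * (ψ g' * ι (j2 y) * (ψ g')⁻¹) * (ψ g)⁻¹ by group, hb]
      cases e' <;> simp only [Bool.false_eq_true, if_false, if_true, ha] <;> cases e <;> simp [swapY_swapY]
  inv_mem' := by
    rintro g ⟨e, a0, a1, ha⟩
    refine ⟨e, ?_, ?_, fun y => ?_⟩
    · rw [InvMemClass.coe_inv, Perm.inv_eq_iff_eq]; cases e <;> simp_all
    · rw [InvMemClass.coe_inv, Perm.inv_eq_iff_eq]; cases e <;> simp_all
    · have h := ha (if e then swapY y else y)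
      rw [map_inv, inv_inv]
      cases e <;> simp only [Bool.false_eq_true, if_false, if_true, swapY_swapY] at h ⊢ <;>
        · conv_lhs => rw [← h]
          group

theorem oppA_comm_revA (hm : 1 ≤ m) : oppA m hm * revA m hm = revA m hm * oppA m hm ∧
    oppA' m hm = oppA m hm * revA m hm := by
  constructor <;>
  · apply Subtype.ext
    refine Equiv.ext fun x => Fin.ext ?_
    simp only [Subgroup.coe_mul, Perm.mul_apply, val_revA, val_oppA, val_oppA']
    split_ifs <;> first | omega | contradiction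

/-- The bound. -/
theorem card_le_few [Fintype F] (k : ℕ) {w : Fˣ} (hw : ∀ x : Fˣ, x ∈ Subgroup.zpowers w)
    (ι : Matrix.SpecialLinearGroup (Fin 3) F →* G) (ψ : alternatingGroup (Fin (3 + (k + 1))) →* G)
    {y : Matrix.SpecialLinearGroup (Fin 2) F} (hy : GoodY y)
    (rc : ι cT = ψ (cycA (k + 1)))
    (rt : ψ (revA (k + 1) (by omega)) * ι (j2 y) * (ψ (revA (k + 1) (by omega)))⁻¹ = ι (j2 (swapY y)))
    (ra : ψ (aA k) * ι (j2 y) * (ψ (aA k))⁻¹ = ι (if aFlag k then j2 (swapY y) else j2 y))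
    (rd : Commute (ι (j2 y)) (ψ (oppA (k + 1) (by omega)) * ι (j2 y) * (ψ (oppA (k + 1) (by omega)))⁻¹))
    (rd' : 2 ≤ k ∨ Commute (ι (j2 y))
      (ψ (oppA (k + 1) (by omega)) * ι (j2 (swapY y)) * (ψ (oppA (k + 1) (by omega)))⁻¹))
    (hgen : ι.range ⊔ ψ.range = ⊤) :
    Finite G ∧ Nat.card G ≤ Nat.card (Matrix.SpecialLinearGroup (Fin (3 + (k + 1))) F) := by
  have hm : 1 ≤ k + 1 := by omega
  set κ := ι.comp j2 with hκ
  obtain ⟨hy1, hy2⟩ := hy
  -- the long cycle
  have hz : ψ (aA k) * ι (j2 (swapY y)) * (ψ (aA k))⁻¹ =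
      ι (if aFlag k then j2 y else j2 (swapY y)) := by
    let ε : Matrix.SpecialLinearGroup (Fin 3) F := if aFlag k then sT else 1
    have hle : Subgroup.closure ({cT, j2 y} : Set (Matrix.SpecialLinearGroup (Fin 3) F)) ≤
        ((MulAut.conj (ψ (aA k))).toMonoidHom.comp ι).eqLocus
          ((MulAut.conj (ι ε)).toMonoidHom.comp ι) := by
      rw [Subgroup.closure_le]
      rintro t (rfl | rfl)
      · show ψ (aA k) * ι cT * (ψ (aA k))⁻¹ = ι ε * ι cT * (ι ε)⁻¹
        rw [rc, ← map_inv ψ, ← map_mul, ← map_mul, aA_cycA, ← rc, ← map_inv ι]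
        cases hfl : aFlag k <;> simp only [ε, hfl, Bool.false_eq_true, if_false, if_true]
        · rw [map_one, inv_one, map_one, one_mul, mul_one, rc]
        · rw [map_mul, ← rc, ← map_mul, ← map_mul, ← map_mul, sT_inv, sT_cT]
      · show ψ (aA k) * ι (j2 y) * (ψ (aA k))⁻¹ = ι ε * ι (j2 y) * (ι ε)⁻¹
        rw [ra, ← map_inv ι, ← map_mul, ← map_mul]
        cases hfl : aFlag k <;> simp [ε, hfl, sT_j2]
    have h : ψ (aA k) * ι (j2 (swapY y)) * (ψ (aA k))⁻¹ = ι ε * ι (j2 (swapY y)) * (ι ε)⁻¹ := hle hy2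
    rw [h, ← map_inv ι, ← map_mul, ← map_mul]
    cases hfl : aFlag k <;> simp [ε, hfl, sT_j2, swapY_swapY]
  have hacts : ∀ (g : alternatingGroup (Fin (3 + (k + 1)))) (e : Bool),
      (g : Perm (Fin (3 + (k + 1)))) (first3 (k + 1) 0) = (if e then first3 (k + 1) 1 else first3 (k + 1) 0) →
      (g : Perm (Fin (3 + (k + 1)))) (first3 (k + 1) 1) = (if e then first3 (k + 1) 0 else first3 (k + 1) 1) →
      ψ g * ι (j2 y) * (ψ g)⁻¹ = ι (if e then j2 (swapY y) else j2 y) →
      ψ g * ι (j2 (swapY y)) * (ψ g)⁻¹ = ι (if e then j2 y else j2 (swapY y)) →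
      g ∈ actsSub ι ψ := by
    intro g e g0 g1 hgy hgz
    refine ⟨e, g0, g1, fun x => ?_⟩
    let ε : Matrix.SpecialLinearGroup (Fin 3) F := if e then sT else 1
    have hε : ∀ x, ι ε * ι (j2 x) * (ι ε)⁻¹ = ι (if e then j2 (swapY x) else j2 x) := by
      intro x; rw [← map_inv ι, ← map_mul, ← map_mul]; cases e <;> simp [ε, sT_j2]
    rw [← hε]
    refine conj_eq_on κ _ hy1 (ψ g) (ι ε) ?_ x
    intro t ht
    rcases ht with ht | ht <;> rw [ht]
    · exact hgy.trans (hε y).symm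
    · refine hgz.trans ?_
      show _ = ι ε * ι (j2 (swapY y)) * (ι ε)⁻¹
      rw [hε, swapY_swapY]
  obtain ⟨r0, r1, -, -⟩ := dswap_apply (hab := (first3_inj (k + 1)).ne (show (0 : Fin 3) ≠ 1 by decide))
    (hcd := first3_ne_fourth hm 2) ((first3_inj (k + 1)).ne (show (0 : Fin 3) ≠ 2 by decide))
    (first3_ne_fourth hm 0) ((first3_inj (k + 1)).ne (show (1 : Fin 3) ≠ 2 by decide)) (first3_ne_fourth hm 1)
  have hττ : revA (k + 1) hm * revA (k + 1) hm = 1 :=
    dswap_mul_self _ _ ((first3_inj (k + 1)).ne (show (0 : Fin 3) ≠ 2 by decide))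
      (first3_ne_fourth hm 0) ((first3_inj (k + 1)).ne (show (1 : Fin 3) ≠ 2 by decide)) (first3_ne_fourth hm 1)
  have hττ' : ψ (revA (k + 1) hm) * ψ (revA (k + 1) hm) = 1 := by rw [← map_mul, hττ, map_one]
  have hrev : revA (k + 1) hm ∈ actsSub ι ψ := by
    refine hacts _ true r0 r1 rt ?_
    show _ = ι (j2 y)
    rw [← rt]
    set t := ψ (revA (k + 1) hm)
    calc t * (t * ι (j2 y) * t⁻¹) * t⁻¹ = (t * t) * ι (j2 y) * (t * t)⁻¹ := by group
      _ = ι (j2 y) := by rw [hττ', one_mul, inv_one, mul_one]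
  have hlong : aA k ∈ actsSub ι ψ := hacts _ _ (aA_first k).1 (aA_first k).2 ra hz
  have hlift : ∀ π, liftEven (k + 1) π ∈ actsSub ι ψ := by
    intro π
    have hle : Subgroup.closure ({Equiv.swap 0 1, rotRest k} : Set (Perm (Fin (k + 2)))) ≤
        (actsSub ι ψ).comap (liftEven (k + 1)) := by
      rw [Subgroup.closure_le]
      rintro t (rfl | rfl)
      · show liftEven (k + 1) (Equiv.swap 0 1) ∈ actsSub ι ψ
        rw [← revA_eq k hm]; exact hrev
      · exact hlong
    exact hle (closure_rest k ▸ Subgroup.mem_top π)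
  have hstab : ∀ g : alternatingGroup (Fin (3 + (k + 1))),
      (g : Perm (Fin (3 + (k + 1)))) (first3 (k + 1) 0) = first3 (k + 1) 0 →
      (g : Perm (Fin (3 + (k + 1)))) (first3 (k + 1) 1) = first3 (k + 1) 1 →
      ∀ x, Commute (ψ g) (ι (j2 x)) := by
    intro g g0 g1 x
    obtain ⟨π, rfl⟩ := fixed_mem g g0 g1
    obtain ⟨e, e0, -, he⟩ := hlift π
    cases e with
    | false => exact mul_inv_eq_iff_eq_mul.1 (he x)
    | true => exact absurd (g0.symm.trans e0) ((first3_inj _).ne (by decide))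
  have hτ : ∀ x, ψ (revA (k + 1) hm) * ι (j2 x) * (ψ (revA (k + 1) hm))⁻¹ = ι (j2 (swapY x)) := by
    intro x
    obtain ⟨e, e0, -, he⟩ := hrev
    cases e with
    | true => exact he x
    | false => exact absurd (e0.symm.trans r0) ((first3_inj _).ne (by decide))
  -- the opposite block
  set g := ψ (oppA (k + 1) hm) with hg
  set τ := ψ (revA (k + 1) hm) with hτdef
  have hgτ : τ * g = g * τ := by rw [hg, hτdef, ← map_mul, ← map_mul, (oppA_comm_revA hm).1]
  have hτg : ∀ x, τ * (g * ι (j2 x) * g⁻¹) * τ⁻¹ = g * ι (j2 (swapY x)) * g⁻¹ := by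
    intro x
    rw [show τ * (g * ι (j2 x) * g⁻¹) * τ⁻¹ = (τ * g) * ι (j2 x) * (τ * g)⁻¹ by group, hgτ,
      show (g * τ) * ι (j2 x) * (g * τ)⁻¹ = g * (τ * ι (j2 x) * τ⁻¹) * g⁻¹ by group, hτ]
  have hflip : ∀ x x', Commute (ι (j2 x)) (g * ι (j2 x') * g⁻¹) →
      Commute (ι (j2 (swapY x))) (g * ι (j2 (swapY x')) * g⁻¹) := by
    intro x x' h
    have h' := h.map (MulAut.conj τ).toMonoidHom
    simp only [MulEquiv.coe_toMonoidHom, MulAut.conj_apply, hτ, hτg] at h'
    exact h'
  have d01 : Commute (ι (j2 y)) (g * ι (j2 (swapY y)) * g⁻¹) := by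
    rcases rd' with hk | h
    · obtain ⟨j, rfl⟩ : ∃ j, k = j + 2 := ⟨k - 2, by omega⟩
      let π : Perm (Fin (j + 2 + 1 + 1)) :=
        Equiv.swap ⟨0, by omega⟩ ⟨1, by omega⟩ * Equiv.swap ⟨2, by omega⟩ ⟨3, by omega⟩
      have hπs : signTwo (j + 2 + 1) π = 1 := by
        refine if_pos ?_
        rw [map_mul, Perm.sign_swap (by simp [Fin.ext_iff]), Perm.sign_swap (by simp [Fin.ext_iff])]
        rfl
      have hπ : ∀ x, Commute (ψ (liftEven (j + 2 + 1) π)) (ι (j2 x)) := by
        refine hstab _ ?_ ?_ <;>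
        · simp only [← pairEquiv_zero, ← pairEquiv_one, liftEven_apply, hπs]; rfl
      have hswap : liftEven (j + 2 + 1) π * oppA (j + 2 + 1) hm =
          oppA (j + 2 + 1) hm * revA (j + 2 + 1) hm * liftEven (j + 2 + 1) π := by
        apply Subtype.ext
        refine Equiv.ext fun x => ?_
        obtain ⟨x, rfl⟩ := (pairEquiv (j + 2 + 1)).surjective x
        have hval : ∀ z, (((liftEven (j + 2 + 1) π : Perm (Fin (3 + (j + 2 + 1))))) z : ℕ) =
            (if (z : ℕ) = 2 then (3 : ℕ) else if (z : ℕ) = 3 then (2 : ℕ) else if (z : ℕ) = 4 then (5 : ℕ) else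
              if (z : ℕ) = 5 then (4 : ℕ) else (z : ℕ)) := by
          intro z
          obtain ⟨z, rfl⟩ := (pairEquiv (j + 2 + 1)).surjective z
          rw [liftEven_apply, hπs]
          rcases z with z | z
          · fin_cases z <;> simp [pairEquiv]
          · simp only [Sum.map_inr, val_pairEquiv_inr, π, Perm.mul_apply, Equiv.swap_apply_def, Fin.ext_iff,
              apply_ite Fin.val]
            split_ifs <;> first | omega | contradiction
        apply Fin.ext
        simp only [Subgroup.coe_mul, Perm.mul_apply, hval, val_revA, val_oppA]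
        obtain ⟨a, ha⟩ : ∃ a : ℕ, ((pairEquiv (j + 2 + 1) x : Fin _) : ℕ) = a := ⟨_, rfl⟩
        rw [ha]
        by_cases hbig : 6 ≤ a
        · simp [show a ≠ 0 by omega, show a ≠ 1 by omega, show a ≠ 2 by omega, show a ≠ 3 by omega,
            show a ≠ 4 by omega, show a ≠ 5 by omega]
        · interval_cases a <;> simp
      set P := ψ (liftEven (j + 2 + 1) π) with hP
      have hPg : P * g = g * τ * P := by rw [hP, hg, hτdef, ← map_mul, ← map_mul, ← map_mul, hswap]
      have hPY : ∀ x, P * ι (j2 x) * P⁻¹ = ι (j2 x) := fun x => by rw [(hπ x).eq, mul_inv_cancel_right]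
      have hPgY : P * (g * ι (j2 y) * g⁻¹) * P⁻¹ = g * ι (j2 (swapY y)) * g⁻¹ := by
        rw [show P * (g * ι (j2 y) * g⁻¹) * P⁻¹ = (P * g) * ι (j2 y) * (P * g)⁻¹ by group, hPg,
          show g * τ * P * ι (j2 y) * (g * τ * P)⁻¹ = g * (τ * (P * ι (j2 y) * P⁻¹) * τ⁻¹) * g⁻¹ by group,
          hPY, hτ]
      have h' := rd.map (MulAut.conj P).toMonoidHom
      simp only [MulEquiv.coe_toMonoidHom, MulAut.conj_apply, hPY, hPgY] at h'
      exact h'
    · exact h
  have hdis : ∀ x x', Commute (ι (j2 x)) (g * ι (j2 x') * g⁻¹) := by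
    refine commute_of_closure κ ((MulAut.conj g).toMonoidHom.comp κ) _ hy1 ?_
    intro a ha b hb
    rcases ha with ha | ha <;> rcases hb with hb | hb <;> rw [ha, hb]
    · exact rd
    · exact d01
    · have := hflip _ _ d01; rwa [swapY_swapY] at this
    · exact hflip _ _ rd
  -- the block criterion
  obtain ⟨s, hsfix, hsgen⟩ := exists_stab_gens (m := k + 1) hm
  have hu : (uBlock : Matrix.SpecialLinearGroup (Fin 3) F) =
      j2 (Matrix.SpecialLinearGroup.transvection (show (0 : Fin 2) ≠ 1 by decide) 1) := (j2_upper 1).symm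
  obtain ⟨h2, hh⟩ : ∃ h2 : Matrix.SpecialLinearGroup (Fin 2) F, dgT (w, w⁻¹) = j2 h2 := by
    refine ⟨⟨!![(w : F), 0; 0, ((w⁻¹ : Fˣ) : F)], by simp [Matrix.det_fin_two]⟩, Subtype.ext ?_⟩
    show (!![(w : F), 0, 0; 0, ((w⁻¹ : Fˣ) : F), 0; 0, 0, (((w * w⁻¹)⁻¹ : Fˣ) : F)] : Matrix (Fin 3) (Fin 3) F) =
      !![(w : F), 0, 0; 0, ((w⁻¹ : Fˣ) : F), 0; 0, 0, 1]
    simp
  have hσ : ∀ x, Commute ((ι sT)⁻¹ * ψ (revA (k + 1) hm)) (ι (j2 x)) := by
    intro x
    refine mul_inv_eq_iff_eq_mul.1 ?_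
    rw [show (ι sT)⁻¹ * τ * ι (j2 x) * ((ι sT)⁻¹ * τ)⁻¹ = (ι sT)⁻¹ * (τ * ι (j2 x) * τ⁻¹) * ι sT by group,
      hτ, ← sT_j2, map_mul, map_mul, map_inv]
    group
  refine card_le_of_block ι ψ hm hw s hsgen rc ?_ ?_ (fun i => ⟨?_, ?_⟩) ?_ hgen
  · rw [hu]; exact hσ _
  · rw [hh]; exact hσ _
  · rw [hu]; exact hstab _ (hsfix i).1 (hsfix i).2 _
  · rw [hh]; exact hstab _ (hsfix i).1 (hsfix i).2 _
  intro q hq
  simp only [List.mem_cons, List.not_mem_nil, or_false] at hq
  rcases hq with rfl | rfl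
  · rw [hu, hh]; exact ⟨hdis _ _, hdis _ _, hdis _ _⟩
  · have hq' : ∀ x, ψ (oppA' (k + 1) hm) * ι (j2 x) * (ψ (oppA' (k + 1) hm))⁻¹ =
        g * ι (j2 (swapY x)) * g⁻¹ := by
      intro x
      rw [(oppA_comm_revA hm).2, map_mul,
        show g * τ * ι (j2 x) * (g * τ)⁻¹ = g * (τ * ι (j2 x) * τ⁻¹) * g⁻¹ by group, hτ]
    rw [hu, hh, hq', hq']
    exact ⟨hdis _ _, hdis _ _, hdis _ _⟩

end CfsgLib.SLFewRels
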