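import Cfsg.Agent.Lib.SLFewRels.Small

/-!
A good element of the block exists over every finite field.
-/

set_option autoImplicit false

namespace CfsgLib.SLFewRels

open Matrix
open CfsgLib.PresentSL3 (cT)

variable {F : Type*} [Field F] [Fintype F]

theorem orderOf_generator {w : Fˣ} (hgen : ∀ x : Fˣ, x ∈ Subgroup.zpowers w) :
    orderOf w = Fintype.card F - 1 := by
  rw [orderOf_eq_card_of_forall_mem_zpowers hgen, Nat.card_units, Nat.card_eq_fintype_card]

theorem nine_neg : (⟨0, 2⟩ : F9) = -⟨0, 1⟩ := by decide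

theorem nine_inv : (⟨2, 1⟩ : F9) = ⟨0, 1⟩ - 1 := by decide

theorem coe_evalWord {R : Type*} [CommRing R] (a b : Matrix.SpecialLinearGroup (Fin 3) R) (l : List Bool) :
    (evalWord a b l).1 = evalWord a.1 b.1 l := by
  induction l with
  | nil => rfl
  | cons x l ih =>
    simp only [evalWord, List.map_cons, List.prod_cons] at ih ⊢
    rw [Matrix.SpecialLinearGroup.coe_mul, ih]
    cases x <;> rfl

/-- The field of four elements. -/
theorem goodY_four (hq : Fintype.card F = 4) : ∃ y : Matrix.SpecialLinearGroup (Fin 2) F, GoodY y := by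
  obtain ⟨p, hpF⟩ := CharP.exists F
  haveI : Fact p.Prime := ⟨CharP.char_is_prime F p⟩
  obtain ⟨e, -, hF⟩ := FiniteField.card F p
  have hp2 : p = 2 := by
    have hd : p ∣ 2 ^ 2 := by
      rw [show (2 ^ 2 : ℕ) = 4 by norm_num, ← hq, hF]
      exact dvd_pow_self p (Nat.one_le_iff_ne_zero.1 e.pos)
    exact (Nat.prime_dvd_prime_iff_eq Fact.out Nat.prime_two).1 ((Fact.out : p.Prime).dvd_of_dvd_pow hd)
  subst hp2
  obtain ⟨g, hgen⟩ : ∃ w : Fˣ, ∀ x : Fˣ, x ∈ Subgroup.zpowers w := IsCyclic.exists_generator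
  have hord : orderOf g = 3 := by rw [orderOf_generator hgen, hq]
  have h3 : ((g : F)) ^ 3 = 1 := by
    have := pow_orderOf_eq_one g
    rw [hord] at this
    rw [← Units.val_pow_eq_pow_val, this, Units.val_one]
  have h2 : (2 : F) = 0 := CharTwo.two_eq_zero
  have h1 : (g : F) - 1 ≠ 0 := sub_ne_zero.2 fun h => by
    have : g = 1 := Units.ext h
    rw [this, orderOf_one] at hord
    omega
  have hw : (g : F) * g = g + 1 := by
    have h : ((g : F) - 1) * ((g : F) * g - g - 1) = 0 := by
      linear_combination h3 - (g : F) * g * h2 + h2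
    exact sub_eq_zero.1 (by linear_combination (mul_eq_zero.1 h).resolve_left h1)
  obtain ⟨φ, hφ⟩ := exists_model 2 (g : F) hw
  have hspan : ∀ c : F, ∃ i j : ℕ, c = i + j * (g : F) := by
    intro c
    by_cases hc : c = 0
    · exact ⟨0, 0, by simp [hc]⟩
    obtain ⟨k, hk⟩ := CfsgLib.PresentSL3.exists_pow_eq hgen (Units.mk0 c hc)
    have hc' : c = (g : F) ^ (k % 3) := by
      rw [← Units.val_mk0 hc, ← hk, Units.val_pow_eq_pow_val]
      conv_lhs => rw [← Nat.mod_add_div k 3, pow_add, pow_mul, h3, one_pow, mul_one]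
    have : k % 3 < 3 := Nat.mod_lt _ (by norm_num)
    interval_cases hk3 : k % 3
    · exact ⟨1, 0, by simp [hc']⟩
    · exact ⟨0, 1, by simp [hc']⟩
    · exact ⟨1, 1, by rw [hc', pow_two, hw]; simp [add_comm]⟩
  have hyz : swapY (SpecialLinearGroup.map φ y4) = SpecialLinearGroup.map φ z4 := by
    apply Subtype.ext
    rw [coe_swapY]
    ext i j
    fin_cases i <;> fin_cases j <;> rfl
  refine ⟨SpecialLinearGroup.map φ y4, ?_, ?_⟩
  · rw [hyz]
    exact top_of_words φ (g : F) hφ hspan words_four.1 words_four.2.1 words_four.2.2.1 words_four.2.2.2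
  · rw [hyz]
    have key : j2 (SpecialLinearGroup.map φ z4) =
        evalWord (j2 (SpecialLinearGroup.map φ y4)) cT word4 := by
      apply Subtype.ext
      have e := congrArg (φ.mapMatrix (m := Fin 3)) word_block_four
      rw [show φ.mapMatrix (m := Fin 3) (evalWord (block4 y4) !![0, 0, 1; 1, 0, 0; 0, 1, 0] word4) =
        evalWord (φ.mapMatrix (m := Fin 3) (block4 y4)) (φ.mapMatrix (m := Fin 3) !![0, 0, 1; 1, 0, 0; 0, 1, 0]) word4
          from map_evalWord (φ.mapMatrix (m := Fin 3)).toMonoidHom _ _ _] at e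
      have hb : ∀ g, φ.mapMatrix (m := Fin 3) (block4 g) = (j2 (SpecialLinearGroup.map φ g)).1 := by
        intro g
        rw [coe_j2]
        ext i j
        fin_cases i <;> fin_cases j <;> simp [block4]
      have hcc : φ.mapMatrix (m := Fin 3) !![0, 0, 1; 1, 0, 0; 0, 1, 0] =
          (cT : Matrix.SpecialLinearGroup (Fin 3) F).1 := by
        rw [CfsgLib.PresentSL3.coe_cT]
        ext i j
        fin_cases i <;> fin_cases j <;> simp
      rw [hb, hb, hcc] at e
      rw [coe_evalWord, e]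
    rw [key, Set.pair_comm]
    exact evalWord_mem _ _ _

/-- The field of nine elements. -/
theorem goodY_nine (hq : Fintype.card F = 9) : ∃ y : Matrix.SpecialLinearGroup (Fin 2) F, GoodY y := by
  obtain ⟨p, hpF⟩ := CharP.exists F
  haveI : Fact p.Prime := ⟨CharP.char_is_prime F p⟩
  obtain ⟨e, -, hF⟩ := FiniteField.card F p
  have hp3 : p = 3 := by
    have hd : p ∣ 3 ^ 2 := by
      rw [show (3 ^ 2 : ℕ) = 9 by norm_num, ← hq, hF]
      exact dvd_pow_self p (Nat.one_le_iff_ne_zero.1 e.pos)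
    exact (Nat.prime_dvd_prime_iff_eq Fact.out Nat.prime_three).1 ((Fact.out : p.Prime).dvd_of_dvd_pow hd)
  subst hp3
  have h3 : (3 : F) = 0 := by exact_mod_cast CharP.cast_eq_zero F 3
  obtain ⟨g, hgen⟩ : ∃ w : Fˣ, ∀ x : Fˣ, x ∈ Subgroup.zpowers w := IsCyclic.exists_generator
  have hord : orderOf g = 8 := by rw [orderOf_generator hgen, hq]
  have h4 : (g : F) ^ 4 = -1 := by
    have h8 : ((g : F) ^ 4) * (g : F) ^ 4 = 1 := by
      rw [← pow_add, ← Units.val_pow_eq_pow_val, show 4 + 4 = orderOf g by omega, pow_orderOf_eq_one,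
        Units.val_one]
    refine (mul_self_eq_one_iff.1 h8).resolve_left fun h => ?_
    have := Nat.le_of_dvd (by norm_num) (orderOf_dvd_of_pow_eq_one (Units.ext (by simpa using h) : g ^ 4 = 1))
    omega
  -- one of `g`, `-g` is a root of `X ^ 2 - X - 1`
  have hfac : ((g : F) * g - g - 1) * ((g : F) * g + g - 1) = 0 := by
    linear_combination h4 - (g : F) * g * h3
  obtain ⟨w, hw, hgw⟩ : ∃ w : Fˣ, (w : F) * w = w + 1 ∧ ∀ x : Fˣ, x ∈ Subgroup.zpowers w := by
    rcases mul_eq_zero.1 hfac with h | h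
    · exact ⟨g, by linear_combination h, hgen⟩
    · refine ⟨g⁻¹, ?_, fun x => by rw [Subgroup.zpowers_inv]; exact hgen x⟩
      have hg0 := g.ne_zero
      rw [Units.val_inv_eq_inv_val]
      field_simp
      linear_combination -h
  obtain ⟨φ, hφ⟩ := exists_model 3 (w : F) hw
  have hord' : orderOf w = 8 := by rw [orderOf_generator hgw, hq]
  have hspan : ∀ c : F, ∃ i j : ℕ, c = i + j * (w : F) := by
    intro c
    by_cases hc : c = 0
    · exact ⟨0, 0, by simp [hc]⟩
    obtain ⟨k, hk⟩ := CfsgLib.PresentSL3.exists_pow_eq hgw (Units.mk0 c hc)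
    have hc' : c = (w : F) ^ k := by rw [← Units.val_mk0 hc, ← hk, Units.val_pow_eq_pow_val]
    subst hc'
    clear hk hc
    induction k with
    | zero => exact ⟨1, 0, by simp⟩
    | succ k ih =>
      obtain ⟨i, j, hij⟩ := ih
      exact ⟨j, i + j, by rw [pow_succ, hij]; push_cast; linear_combination (j : F) * hw⟩
  have hwi : ((w⁻¹ : Fˣ) : F) = (w : F) - 1 := by
    rw [Units.val_inv_eq_inv_val]
    refine inv_eq_of_mul_eq_one_right ?_
    linear_combination hw
  have hy : SpecialLinearGroup.map φ y9 = borelY w (-(w : F)) := by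
    apply Subtype.ext
    rw [coe_borelY, hwi]
    have e1 : φ ⟨0, 2⟩ = -(w : F) := by
      rw [nine_neg, map_neg, hφ]
    have e2 : φ ⟨2, 1⟩ = (w : F) - 1 := by
      rw [nine_inv, map_sub, map_one, hφ]
    ext i j
    fin_cases i <;> fin_cases j <;> first | exact hφ | exact e1 | exact e2 | exact map_zero φ
  have hyz : swapY (SpecialLinearGroup.map φ y9) = SpecialLinearGroup.map φ z9 := by
    apply Subtype.ext
    rw [coe_swapY]
    ext i j
    fin_cases i <;> fin_cases j <;> rfl
  refine ⟨SpecialLinearGroup.map φ y9, ?_, ?_⟩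
  · rw [hyz]
    exact top_of_words φ (w : F) hφ hspan words_nine.1 words_nine.2.1 words_nine.2.2.1 words_nine.2.2.2
  · rw [hy]
    refine borel_generates hgw (neg_ne_zero.2 w.ne_zero) ?_ ?_ _
    · intro h
      have : w = 1 := Units.ext h
      rw [this, orderOf_one] at hord'
      omega
    · intro h
      have := Nat.le_of_dvd (by norm_num) (orderOf_dvd_of_pow_eq_one (Units.ext (by simpa using h) : w ^ 3 = 1))
      omega

/-- A good element exists. -/
theorem exists_goodY : ∃ y : Matrix.SpecialLinearGroup (Fin 2) F, GoodY y := by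
  by_cases hp : (Fintype.card F).Prime
  · exact goodY_prime hp
  by_cases h4 : Fintype.card F = 4
  · exact goodY_four h4
  by_cases h9 : Fintype.card F = 9
  · exact goodY_nine h9
  have h8 : 8 ≤ Fintype.card F := by
    obtain ⟨p, hpF⟩ := CharP.exists F
    haveI : Fact p.Prime := ⟨CharP.char_is_prime F p⟩
    obtain ⟨e, -, hF⟩ := FiniteField.card F p
    have he : 2 ≤ (e : ℕ) := by
      by_contra h
      have : (e : ℕ) = 1 := by have := e.pos; omega
      exact hp (by rw [hF, this, pow_one]; exact Fact.out)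
    rcases eq_or_ne p 2 with h2 | h2
    · subst h2
      have : (e : ℕ) ≠ 2 := fun h => h4 (by rw [hF, h]; norm_num)
      rw [hF]
      calc 8 = 2 ^ 3 := by norm_num
        _ ≤ 2 ^ (e : ℕ) := Nat.pow_le_pow_right (by norm_num) (by omega)
    · have := (Fact.out : p.Prime).two_le
      rw [hF]
      calc 8 ≤ 3 ^ 2 := by norm_num
        _ ≤ p ^ 2 := Nat.pow_le_pow_left (by omega) 2
        _ ≤ p ^ (e : ℕ) := Nat.pow_le_pow_right (by omega) he
  obtain ⟨w, hgen⟩ : ∃ w : Fˣ, ∀ x : Fˣ, x ∈ Subgroup.zpowers w := IsCyclic.exists_generator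
  have hpow : ∀ j, 0 < j → j < 4 → (w : F) ^ j ≠ 1 := by
    intro j h0 hj e
    have := Nat.le_of_dvd h0 (orderOf_dvd_of_pow_eq_one (Units.ext (by simpa using e) : w ^ j = 1))
    rw [orderOf_generator hgen] at this
    omega
  refine ⟨borelY w (1 - (w : F) * w), closure_borel hgen h8 h9 hp, borel_generates hgen ?_ ?_ ?_ _⟩
  · rw [← pow_two]; exact sub_ne_zero.2 (Ne.symm (hpow 2 (by norm_num) (by norm_num)))
  · rw [← pow_one (w : F)]; exact hpow 1 one_pos (by norm_num)
  · exact hpow 3 (by norm_num) (by norm_num)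

end CfsgLib.SLFewRels
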