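import Cfsg.Agent.Lib.SLFewRels.Glue
import Cfsg.Agent.Lib.SLFewRels.Exists
import Cfsg.Agent.Lib.SymPres.Final
import Cfsg.Agent.Lib.Present.Icosahedral
import Cfsg.Agent.Lib.BoundedPres.PSL

/-!
Presentations of `SL_n(F)` and `PSL_n(F)` on few generators with few relations.
-/

set_option autoImplicit false

namespace CfsgLib.SLFewRels

open Equiv
open CfsgLib.BoundedPres

theorem range_two {G : Type*} (f : Fin 2 → G) : Set.range f = {f 0, f 1} := by
  ext z
  constructor
  · rintro ⟨i, rfl⟩
    fin_cases i <;> simp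
  · rintro (rfl | rfl)
    exacts [⟨0, rfl⟩, ⟨1, rfl⟩]

/-- A generator of order two in `A₄`. -/
def altFourX : alternatingGroup (Fin 4) := ⟨swap 0 1 * swap 2 3, Equiv.Perm.mem_alternatingGroup.2 (by decide)⟩

/-- A generator of order three in `A₄`. -/
def altFourY : alternatingGroup (Fin 4) := ⟨swap 1 2 * swap 2 3, Equiv.Perm.mem_alternatingGroup.2 (by decide)⟩

/-- A generator of order three in `A₅`. -/
def altFiveX : alternatingGroup (Fin 5) := ⟨swap 0 1 * swap 1 2, Equiv.Perm.mem_alternatingGroup.2 (by decide)⟩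

/-- A generator of order five in `A₅`. -/
def altFiveY : alternatingGroup (Fin 5) :=
  ⟨swap 0 2 * swap 2 4 * swap 4 1 * swap 1 3, Equiv.Perm.mem_alternatingGroup.2 (by decide)⟩

theorem alt_four_bound {G : Type*} [Group G] (x y : G) (hx : x ^ 2 = 1) (hy : y ^ 3 = 1)
    (hxy : (x * y) ^ 3 = 1) (hgen : Subgroup.closure ({x, y} : Set G) = ⊤) :
    Finite G ∧ Nat.card G ≤ 12 := by
  rw [pow_two] at hx
  rw [pow_three, ← mul_assoc] at hy
  rw [pow_three, ← mul_assoc] at hxy
  set b := y * x * y⁻¹ with hb
  set c := y * b * y⁻¹ with hc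
  have hxi : x⁻¹ = x := inv_eq_of_mul_eq_one_right hx
  have hyi : y⁻¹ = y * y := inv_eq_of_mul_eq_one_right (by rw [← mul_assoc]; exact hy)
  have hbb : b * b = 1 := by
    rw [hb, show y * x * y⁻¹ * (y * x * y⁻¹) = y * (x * x) * y⁻¹ by group, hx, mul_one, mul_inv_cancel]
  have hcc : c * c = 1 := by
    rw [hc, show y * b * y⁻¹ * (y * b * y⁻¹) = y * (b * b) * y⁻¹ by group, hbb, mul_one, mul_inv_cancel]
  have hxbc : x * b * c = 1 := by
    calc x * b * c = (x * y) * (x * y) * (x * y) * (y * y * y)⁻¹ := by rw [hc, hb]; group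
      _ = 1 := by rw [hxy, hy, inv_one, mul_one]
  have hbi : b⁻¹ = b := inv_eq_of_mul_eq_one_right hbb
  have hcb : c = b * x := by
    rw [eq_inv_of_mul_eq_one_right hxbc, mul_inv_rev, hbi, hxi]
  have hcomm : x * b = b * x := by
    have := hcc
    rw [hcb] at this
    have := eq_inv_of_mul_eq_one_right this
    rw [mul_inv_rev, hxi, hbi] at this
    exact this.symm
  have hyx : y * x = b * y := by rw [hb]; group
  have hyb : y * b = b * x * y := by rw [← hcb, hc]; group
  let E : Bool × Bool × Fin 3 → G := fun t =>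
    (if t.1 then x else 1) * (if t.2.1 then b else 1) * y ^ (t.2.2 : ℕ)
  have hY : ∀ t, E t * y ∈ Set.range E := by
    rintro ⟨p, q, i⟩
    fin_cases i
    · exact ⟨(p, q, 1), by simp [E]⟩
    · exact ⟨(p, q, 2), by simp [E, pow_two, mul_assoc]⟩
    · exact ⟨(p, q, 0), by simp [E, pow_two, mul_assoc, show y * (y * y) = 1 by rw [← mul_assoc]; exact hy]⟩
  have hX : ∀ t, E t * x ∈ Set.range E := by
    have hyyx : y ^ 2 * x = x * b * y ^ 2 := by
      rw [pow_two, mul_assoc, hyx, ← mul_assoc, hyb, hcomm, mul_assoc]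
    have hbx : b * (x * b) = x := by rw [hcomm, ← mul_assoc, hbb, one_mul]
    rintro ⟨p, q, i⟩
    have e0 : ∀ p q : Bool, (if p then x else 1) * (if q then b else 1) * x
        = (if !p then x else 1) * (if q then b else 1) := by
      intro p q
      cases p <;> cases q <;> simp only [Bool.not_true, Bool.not_false, if_true, if_false,
        one_mul, mul_one, Bool.false_eq_true]
      · exact hcomm.symm
      · exact hx
      · rw [mul_assoc, ← hcomm, ← mul_assoc, hx, one_mul]
    have e1 : ∀ p q : Bool, (if p then x else 1) * (if q then b else 1) * b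
        = (if p then x else 1) * (if !q then b else 1) := by
      intro p q
      cases p <;> cases q <;> simp only [Bool.not_true, Bool.not_false, if_true, if_false,
        one_mul, mul_one, Bool.false_eq_true]
      · exact hbb
      · rw [mul_assoc, hbb, mul_one]
    have key : ∀ k : ℕ, ∀ p q : Bool, ∀ p' q' : Bool, ∀ z : G,
        y ^ k * x = z * y ^ k → (if p then x else 1) * (if q then b else 1) * z
          = (if p' then x else 1) * (if q' then b else 1) →
        (if p then x else 1) * (if q then b else 1) * y ^ k * x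
          = (if p' then x else 1) * (if q' then b else 1) * y ^ k := by
      intro k p q p' q' z hz he
      rw [mul_assoc _ (y ^ k) x, hz, ← mul_assoc, he]
    fin_cases i
    · refine ⟨(!p, q, 0), ?_⟩
      simp only [E, Fin.val_zero, pow_zero, mul_one]
      exact (e0 p q).symm
    · refine ⟨(p, !q, 1), ?_⟩
      simp only [E, Fin.isValue, Fin.val_one]
      exact (key 1 p q p (!q) b (by rw [pow_one, hyx]) (e1 p q)).symm
    · refine ⟨(!p, !q, 2), ?_⟩
      simp only [E, Fin.isValue, Fin.val_two]
      refine (key 2 p q (!p) (!q) (x * b) hyyx ?_).symm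
      rw [← mul_assoc, e0 p q, e1]
  have hall : ∀ g, g ∈ Set.range E := by
    intro g
    have hg : g ∈ Subgroup.closure ({x, y} : Set G) := hgen ▸ Subgroup.mem_top g
    induction hg using Subgroup.closure_induction_right with
    | one => exact ⟨(false, false, 0), by simp [E]⟩
    | mul_right u hu v hv ih =>
      obtain ⟨t, rfl⟩ := ih
      rcases hv with rfl | rfl
      exacts [hX t, hY t]
    | mul_inv_cancel u hu v hv ih =>
      obtain ⟨t, rfl⟩ := ih
      rcases hv with rfl | rfl
      · rw [hxi]; exact hX t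
      · rw [hyi, ← mul_assoc]
        obtain ⟨t', ht⟩ := hY t
        rw [← ht]
        exact hY t'
  have hs : Function.Surjective E := hall
  exact ⟨Finite.of_surjective E hs, (Nat.card_le_card_of_surjective E hs).trans (by simp)⟩

theorem presOn_alt_four : PresOn (Fin 2) (alternatingGroup (Fin 4)) 3 := by
  have hcard : Nat.card (alternatingGroup (Fin 4)) = 12 := by rw [Nat.card_eq_fintype_card]; decide
  have hgen : Subgroup.closure (Set.range ![altFourX, altFourY]) = ⊤ := by
    rw [eq_top_iff]
    intro g _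
    have key : ∀ g : alternatingGroup (Fin 4), ∃ i j : Fin 3, ∃ a b : Bool,
        (if a then altFourX else 1) * altFourY ^ (i : ℕ) * (if b then altFourX else 1) * altFourY ^ (j : ℕ) = g := by
      decide +kernel
    obtain ⟨i, j, a, b, rfl⟩ := key g
    have h0 : altFourX ∈ Subgroup.closure (Set.range ![altFourX, altFourY]) := Subgroup.subset_closure ⟨0, rfl⟩
    have h1 : altFourY ∈ Subgroup.closure (Set.range ![altFourX, altFourY]) := Subgroup.subset_closure ⟨1, rfl⟩
    refine Subgroup.mul_mem _ (Subgroup.mul_mem _ (Subgroup.mul_mem _ ?_ (pow_mem h1 _)) ?_) (pow_mem h1 _)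
    · split_ifs <;> [exact h0; exact one_mem _]
    · split_ifs <;> [exact h0; exact one_mem _]
  refine PresOn.of_bound ![altFourX, altFourY]
    [FreeGroup.of 0 ^ 2, FreeGroup.of 1 ^ 3, (FreeGroup.of 0 * FreeGroup.of 1) ^ 3] ?_ hgen ?_
  · intro w hw
    simp only [List.mem_cons, List.not_mem_nil, or_false] at hw
    rcases hw with rfl | rfl | rfl <;>
      simp only [map_pow, map_mul, FreeGroup.lift_apply_of] <;> decide +kernel
  · intro G _ φ f _ hf hk
    rw [range_two] at hf
    rw [hcard]
    have k1 := hk (FreeGroup.of 0 ^ 2) (by simp)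
    have k2 := hk (FreeGroup.of 1 ^ 3) (by simp)
    have k3 := hk ((FreeGroup.of 0 * FreeGroup.of 1) ^ 3) (by simp)
    simp only [map_pow, map_mul, FreeGroup.lift_apply_of] at k1 k2 k3
    exact alt_four_bound (f 0) (f 1) k1 k2 k3 hf

theorem presOn_alt_five : PresOn (Fin 2) (alternatingGroup (Fin 5)) 3 := by
  have hcard : Nat.card (alternatingGroup (Fin 5)) = 60 := by rw [Nat.card_eq_fintype_card]; decide +kernel
  have hgen : Subgroup.closure (Set.range ![altFiveX, altFiveY]) = ⊤ := by
    set S := Subgroup.closure (Set.range ![altFiveX, altFiveY])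
    have h3 : orderOf altFiveX = 3 := by
      haveI : Fact (Nat.Prime 3) := ⟨Nat.prime_three⟩
      exact orderOf_eq_prime (by decide +kernel) (by decide +kernel)
    have h5 : orderOf altFiveY = 5 := by
      haveI : Fact (Nat.Prime 5) := ⟨by norm_num⟩
      exact orderOf_eq_prime (by decide +kernel) (by decide +kernel)
    have h2 : orderOf (altFiveX * altFiveY) = 2 := by
      haveI : Fact (Nat.Prime 2) := ⟨Nat.prime_two⟩
      exact orderOf_eq_prime (by decide +kernel) (by decide +kernel)
    have hx : altFiveX ∈ S := Subgroup.subset_closure ⟨0, rfl⟩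
    have hy : altFiveY ∈ S := Subgroup.subset_closure ⟨1, rfl⟩
    have d : ∀ g ∈ S, orderOf g ∣ Nat.card S := fun g hg =>
      Subgroup.orderOf_dvd_natCard S hg
    have d30 : 30 ∣ Nat.card S := by
      have a := d _ hx; have b := d _ hy; have c := d _ (S.mul_mem hx hy)
      rw [h3] at a; rw [h5] at b; rw [h2] at c
      have : Nat.lcm (Nat.lcm 3 5) 2 ∣ Nat.card S := Nat.lcm_dvd (Nat.lcm_dvd a b) c
      exact (show Nat.lcm (Nat.lcm 3 5) 2 = 30 by decide) ▸ this
    have hindex : S.index ≤ 2 := by
      have := Subgroup.card_mul_index S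
      rw [hcard] at this
      have hpos : 0 < Nat.card S := Nat.card_pos
      have h30 := Nat.le_of_dvd hpos d30
      by_contra h
      have : 30 * 3 ≤ Nat.card S * S.index := Nat.mul_le_mul h30 (by omega)
      omega
    have hne : S.index ≠ 0 := Subgroup.index_ne_zero_of_finite
    rcases (by omega : S.index = 1 ∨ S.index = 2) with h | h
    · exact Subgroup.index_eq_one.1 h
    · haveI := Subgroup.normal_of_index_eq_two h
      haveI : IsSimpleGroup (alternatingGroup (Fin 5)) := alternatingGroup.isSimpleGroup_five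
      rcases IsSimpleGroup.eq_bot_or_eq_top_of_normal S inferInstance with e | e
      · rw [e, Subgroup.index_bot, hcard] at h; omega
      · exact e
  refine PresOn.of_bound ![altFiveX, altFiveY]
    [FreeGroup.of 0 ^ 3, FreeGroup.of 1 ^ 5, (FreeGroup.of 0 * FreeGroup.of 1) ^ 2] ?_ hgen ?_
  · intro w hw
    simp only [List.mem_cons, List.not_mem_nil, or_false] at hw
    rcases hw with rfl | rfl | rfl <;>
      simp only [map_pow, map_mul, FreeGroup.lift_apply_of] <;> decide +kernel
  · intro G _ φ f _ hf hk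
    rw [range_two] at hf
    rw [hcard]
    have k1 := hk (FreeGroup.of 0 ^ 3) (by simp)
    have k2 := hk (FreeGroup.of 1 ^ 5) (by simp)
    have k3 := hk ((FreeGroup.of 0 * FreeGroup.of 1) ^ 2) (by simp)
    simp only [map_pow, map_mul, FreeGroup.lift_apply_of] at k1 k2 k3
    exact CfsgLib.Present.icosahedral_card_le (f 0) (f 1) k1 k2 k3 hf

variable {F : Type*} [Field F] [Fintype F]

theorem presOn_PSL {X : Type} {n r : ℕ} (hn : 0 < n)
    (h : PresOn X (Matrix.SpecialLinearGroup (Fin n) F) r) :
    PresOn X (Matrix.ProjectiveSpecialLinearGroup (Fin n) F) (r + 1) := by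
  obtain ⟨z, hz⟩ := center_normalClosure (F := F) n hn
  exact h.quotient _ z hz

/-- `SL₄` on five generators. -/
theorem presOn_SL_four : PresOn (Fin 3 ⊕ Fin 2) (Matrix.SpecialLinearGroup (Fin 4) F) 20 := by
  obtain ⟨y, hy⟩ := exists_goodY (F := F)
  exact (presOn_SL (F := F) 0 hy presOn_alt_four).mono (le_of_eq rfl)

/-- `SL₅` on five generators. -/
theorem presOn_SL_five : PresOn (Fin 3 ⊕ Fin 2) (Matrix.SpecialLinearGroup (Fin 5) F) 21 := by
  obtain ⟨y, hy⟩ := exists_goodY (F := F)
  exact (presOn_SL (F := F) 1 hy presOn_alt_five).mono (le_of_eq rfl)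

/-- `SL_n` on seven generators. -/
theorem presOn_SL_seven (n : ℕ) (hn : 4 ≤ n) :
    PresOn (Fin 7) (Matrix.SpecialLinearGroup (Fin n) F) 25 := by
  rcases Nat.lt_or_ge n 6 with h | h
  · interval_cases n
    · exact ((((presOn_SL_four (F := F)).pad (Fin 2))).reindex
        ((Equiv.sumCongr finSumFinEquiv (Equiv.refl (Fin 2))).trans finSumFinEquiv)).mono (by simp)
    · exact ((((presOn_SL_five (F := F)).pad (Fin 2))).reindex
        ((Equiv.sumCongr finSumFinEquiv (Equiv.refl (Fin 2))).trans finSumFinEquiv)).mono (by simp)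
  · obtain ⟨y, hy⟩ := exists_goodY (F := F)
    obtain ⟨k, rfl⟩ : ∃ k, n = 3 + (k + 1) := ⟨n - 4, by omega⟩
    exact (((presOn_SL (F := F) k hy (CfsgLib.SymPres.alt_presentations (by omega)).1).pad (Fin 1)).reindex
      ((Equiv.sumCongr finSumFinEquiv (Equiv.refl (Fin 1))).trans finSumFinEquiv)).mono
        (by simp [glueCount, show k ≠ 1 by omega])

end CfsgLib.SLFewRels
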