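import Cfsg.Agent.Lib.PresentSL3.Target
import Cfsg.Agent.Lib.BoundedPres.Basic

/-!
The presentation of `SL₃(F)` on four generators, one of them the rotation, in list form.
-/

set_option autoImplicit false

namespace CfsgLib.SLFewRels

open Polynomial CfsgLib.PresentSL2 CfsgLib.PresentSL3
open CfsgLib.SteinbergSL (gensAll card_le_SL)
open CfsgLib.BoundedPres (Kills)

/-- The universal property from a bound on the order. -/
theorem univ_of_bound {X : Type} {T : Type*} [Group T] [Finite T] (v : X → T) (L : List (FreeGroup X))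
    (hgen : Subgroup.closure (Set.range v) = ⊤) (hL : ∀ w ∈ L, FreeGroup.lift v w = 1)
    (hcore : ∀ (G : Type) [Group G] (f : X → G), Subgroup.closure (Set.range f) = ⊤ →
      (∀ w ∈ L, FreeGroup.lift f w = 1) → Finite G ∧ Nat.card G ≤ Nat.card T) :
    Kills v L ∧ Subgroup.closure (Set.range v) = ⊤ ∧
      ∀ (G : Type) [Group G] (f : X → G), Kills f L → ∃ ψ : T →* G, ∀ x, ψ (v x) = f x := by
  refine ⟨hL, hgen, fun G _ f hf => ?_⟩
  set R : Set (FreeGroup X) := {w | w ∈ L} with hR
  let φ : PresentedGroup R →* T := PresentedGroup.toGroup (f := v) hL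
  have hφ : ∀ x, φ (PresentedGroup.of x) = v x := fun x => PresentedGroup.toGroup.of (f := v) hL
  have hrel : ∀ w ∈ L, FreeGroup.lift (fun x => (PresentedGroup.of x : PresentedGroup R)) w = 1 := by
    intro w hw
    have he : FreeGroup.lift (fun x => (PresentedGroup.of x : PresentedGroup R)) = PresentedGroup.mk R :=
      FreeGroup.ext_hom _ _ fun i => by simp [PresentedGroup.of]
    rw [he]
    exact PresentedGroup.one_of_mem hw
  obtain ⟨hfin, hle⟩ := hcore _ _ (PresentedGroup.closure_range_of R) hrel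
  have hsurj : Function.Surjective φ := by
    rw [← MonoidHom.range_eq_top, eq_top_iff, ← hgen, Subgroup.closure_le]
    rintro _ ⟨x, rfl⟩
    exact ⟨_, hφ x⟩
  let e := MulEquiv.ofBijective φ ((Nat.bijective_iff_surjective_and_card φ).2
    ⟨hsurj, le_antisymm hle (Nat.card_le_card_of_surjective φ hsurj)⟩)
  refine ⟨(PresentedGroup.toGroup (f := f) (rels := R) hf).comp e.symm.toMonoidHom, fun x => ?_⟩
  have : e.symm (v x) = PresentedGroup.of x := by rw [e.symm_apply_eq]; exact (hφ x).symm
  show PresentedGroup.toGroup (f := f) (rels := R) hf (e.symm (v x)) = f x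
  rw [this]
  exact PresentedGroup.toGroup.of (f := f) (rels := R) hf

variable {F : Type*} [Field F]

theorem presentation_sl_three_cycle [Fintype F] :
    ∃ (v : Fin 4 → Matrix.SpecialLinearGroup (Fin 3) F) (L : List (FreeGroup (Fin 4))),
      v 3 = cT ∧ L.length ≤ 14 ∧ Kills v L ∧ Subgroup.closure (Set.range v) = ⊤ ∧
      ∀ (G : Type) [Group G] (f : Fin 4 → G), Kills f L →
        ∃ ψ : Matrix.SpecialLinearGroup (Fin 3) F →* G, ∀ x, ψ (v x) = f x := by
  classical
  obtain ⟨p, hp⟩ := CharP.exists F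
  haveI : Fact p.Prime := ⟨CharP.char_is_prime F p⟩
  obtain ⟨e, -, hF⟩ := FiniteField.card F p
  obtain ⟨w, hgen⟩ : ∃ w : Fˣ, ∀ x : Fˣ, x ∈ Subgroup.zpowers w := IsCyclic.exists_generator
  obtain ⟨D⟩ := exists_D hF hgen
  have hw : (w : F) ≠ 0 := w.ne_zero
  set small : Bool := decide ((w : F)⁻¹ + 1 = 0) with hsmall
  obtain ⟨k, hk⟩ : ∃ k : ℕ, small = false → ((w : F)⁻¹) ^ k = 1 + (w : F)⁻¹ := by
    by_cases h : (w : F)⁻¹ + 1 = 0
    · exact ⟨0, fun e => by simp [hsmall, h] at e⟩
    · obtain ⟨k, hk⟩ := exists_pow_eq hgen (Units.mk0 _ h)⁻¹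
      refine ⟨k, fun _ => ?_⟩
      have := congrArg Units.val hk
      simp only [Units.val_pow_eq_pow_val, Units.val_inv_eq_inv_val, Units.val_mk0] at this
      rw [inv_pow, this, inv_inv, add_comm]
  obtain ⟨m, hm⟩ := exists_pow_eq hgen (-1)
  set Pg := (D.surj ((w : F) * w)).choose with hPgd
  have hPg : aeval (w : F)⁻¹ Pg = (w : F) * w := aeval_polyW D _
  -- the target
  set u₀ : Matrix.SpecialLinearGroup (Fin 3) F := eT (Multiplicative.ofAdd 1) with hu₀
  set h₀ : Matrix.SpecialLinearGroup (Fin 3) F := dgT (w, w⁻¹) with hh₀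
  have ha₀ : cT * h₀ * cT⁻¹ = dgT (1, w) := by rw [hh₀, cT_dgT]; simp
  have hb₀ : (cT : Matrix.SpecialLinearGroup (Fin 3) F)⁻¹ * h₀ * cT = dgT (w⁻¹, 1) := by
    rw [show (cT : Matrix.SpecialLinearGroup (Fin 3) F)⁻¹ * h₀ * cT = cT * (cT * h₀ * cT⁻¹) * cT⁻¹ by
      have e : (cT : Matrix.SpecialLinearGroup (Fin 3) F)⁻¹ = cT * cT :=
        inv_eq_of_mul_eq_one_right (by rw [← mul_assoc, cT_cube])
      conv_rhs => rw [show cT * (cT * h₀ * cT⁻¹) * cT⁻¹ = (cT * cT) * h₀ * (cT * cT)⁻¹ by group]
      rw [← e, inv_inv], ha₀, cT_dgT]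
    simp
  have hevT : ∀ P, ev (cT * h₀ * cT⁻¹) u₀ P = eT (Multiplicative.ofAdd (aeval (w : F)⁻¹ P)) :=
    ev_of_field_hom eT rfl fun y => by rw [ha₀, dgT_eT]; simp
  have hcjT : cj (cT * h₀ * cT⁻¹) u₀ 1 = eT (Multiplicative.ofAdd ((w : F)⁻¹)) := by
    rw [cj, pow_one, ha₀, hu₀, dgT_eT]
    simp
  have hbase : ∀ z ∈ baseW p k m small D.M Pg u₀ h₀ sT cT, z = 1 := by
    have hsinv : (sT : Matrix.SpecialLinearGroup (Fin 3) F)⁻¹ = sT := inv_eq_of_mul_eq_one_right sT_sq
    simp only [baseW, List.forall_mem_cons, List.not_mem_nil, false_imp_iff, implies_true, and_true,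
      mul_inv_eq_one]
    refine ⟨?_, ?_, ?_, ?_, sT_sq, sT_cT, ?_, ?_, ?_, ?_, ?_⟩
    · rw [hu₀, ← map_pow, ← ofAdd_nsmul]; simp
    · rw [hcjT, hu₀]
      exact ((Commute.all _ _).map eT).eq
    · rw [hcjT, hu₀]
      cases hs : small with
      | true =>
        rw [hsmall, decide_eq_true_iff] at hs
        rw [if_pos rfl, ← map_mul, ← ofAdd_add, hs, ofAdd_zero, map_one]
      | false =>
        rw [if_neg (by simp), ha₀, ← map_pow dgT, dgT_eT, ← map_mul, ← ofAdd_add, mul_inv_eq_one]
        have := hk hs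
        simp only [Prod.pow_fst, Prod.pow_snd, one_pow, Units.val_one, Units.val_pow_eq_pow_val]
        rw [one_div, ← inv_pow, this, mul_one]
    · rw [hevT, D.root, ofAdd_zero, map_one]
    · rw [inv_mul_eq_one, ha₀, ← map_pow dgT, hsinv, hu₀, ← map_inv (eT (F := F)), ← ofAdd_neg,
        show ((1 : Fˣ), w) ^ m = (1, -1) by rw [Prod.pow_mk, one_pow, hm]]
      exact sT_word
    · rw [ha₀, hh₀, ← map_mul, ← map_mul, mul_comm]
    · rw [ha₀, hb₀, hh₀, ← map_mul, ← map_mul]
      simp [Prod.mk_one_one]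
    · rw [hevT, hPg, hh₀, hu₀, dgT_eT]
      congr 2
      simp
    · rw [hh₀, sT_dgT, ← map_mul]
      simp [Prod.mk_one_one]
  obtain ⟨R₀, hR₀w, hR₀h, hR₀s, hR₀c, hR₀u, -, -, -⟩ := exists_frame hgen D hPg hbase
  have hroot : ∀ (i j : Fin 3) (hij : i ≠ j) (y : F),
      rootW sT cT i j (eT (Multiplicative.ofAdd y)) = Matrix.SpecialLinearGroup.transvection hij y :=
    fun i j hij y => rootW_eT hij y
  have hgenT : Subgroup.closure (Set.range ![u₀, h₀, sT, cT]) = ⊤ := by
    refine CfsgLib.Linear.SL_eq_top_of_transvection_mem _ fun i j hij y => ?_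
    set H := Subgroup.closure (Set.range ![u₀, h₀, sT, cT])
    have hm : ∀ n, ![u₀, h₀, sT, cT] n ∈ H := fun n => Subgroup.subset_closure ⟨n, rfl⟩
    have hu : u₀ ∈ H := hm 0
    have hs : sT ∈ H := hm 2
    have hc : cT ∈ H := hm 3
    have hh : h₀ ∈ H := hm 1
    have he : eT (Multiplicative.ofAdd y) ∈ H := by
      rw [← aeval_polyW D y, ← hevT]
      refine Subgroup.list_prod_mem _ fun z hz => ?_
      obtain ⟨l, -, rfl⟩ := List.mem_map.1 hz
      have ha := H.mul_mem (H.mul_mem hc hh) (H.inv_mem hc)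
      exact H.zpow_mem (H.mul_mem (H.mul_mem (H.pow_mem ha _) hu) (H.inv_mem (H.pow_mem ha _))) _
    rw [← hroot i j hij y]
    have hW : wordW cT sT i j ∈ H := by
      unfold wordW
      split_ifs
      exacts [H.pow_mem hc _, H.mul_mem (H.pow_mem hc _) hs]
    exact H.mul_mem (H.mul_mem hW he) (H.inv_mem hW)
  set vF : Fin 4 → FreeGroup (Fin 4) := FreeGroup.of with hvF
  set base := baseW p k m small D.M Pg (vF 0) (vF 1) (vF 2) (vF 3) with hbaseF
  have hbase_len : base.length = 11 := by simp [hbaseF, baseW]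
  have hcore : ∀ (G : Type) [Group G] (v : Fin 4 → G), Subgroup.closure (Set.range v) = ⊤ →
      (∀ z ∈ baseW p k m small D.M Pg (v 0) (v 1) (v 2) (v 3), z = 1) →
      ∃ R : Frame F G, R.w = w ∧ R.h = v 1 ∧ R.s = v 2 ∧ R.c = v 3 ∧
        R.Φ (Multiplicative.ofAdd 1) = v 0 ∧
        Subgroup.closure (gensAll R.x) = ⊤ := by
    intro G _ v hv hb
    obtain ⟨R, e1, e2, e3, e4, e5, hcm, h012, hs⟩ := exists_frame hgen D hPg hb
    refine ⟨R, e1, e2, e3, e4, e5, R.closure_roots ?_ ?_ m ?_ ?_⟩
    · rw [e2, e4]; exact hcm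
    · rw [e2, e4]; exact h012
    · rw [e3, e4, e2]; exact hs
    · rw [R.x_zero_one, e5, e2, e3, e4, ← hv]
      congr 1
      ext z
      simp [Set.mem_range, Fin.exists_fin_succ, eq_comm]
  have hrootR : ∀ {G : Type} [Group G] (R : Frame F G) (i j : Fin 3) (y : F),
      R.x i j y = rootW R.s R.c i j (R.Φ (Multiplicative.ofAdd y)) := fun R i j y => rfl
  by_cases hp2 : p = 2
  · subst hp2
    set Pr : ℕ → ℤ[X] := fun r => (D.surj ((w : F) ^ r)).choose with hPr
    have hPr' : ∀ r, aeval (w : F)⁻¹ (Pr r) = (w : F) ^ r := fun r => aeval_polyW D _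
    set L := base ++ (List.range 3).map (fun r => cosetW (vF 0) (vF 1) (vF 2) (vF 3) (Pr r)) with hL
    refine ⟨![u₀, h₀, sT, cT], L, rfl, ?_, univ_of_bound ![u₀, h₀, sT, cT] L hgenT (by
      refine fun z hz => ?_
      have hz' := List.mem_map_of_mem (f := FreeGroup.lift ![u₀, h₀, sT, cT]) hz
      rw [hL, List.map_append, hbaseF, hvF, lift_baseW, lift_cosetW, List.mem_append] at hz'
      rcases hz' with hz' | hz'
      · exact hbase _ (by simpa using hz')
      · obtain ⟨r, -, hr⟩ := List.mem_map.1 hz'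
        rw [← hr]
        simp only [cosetW, Matrix.cons_val, mul_inv_eq_one, hevT, hPr']
        rw [hroot 1 2 (by decide), hroot 0 2 (by decide), hu₀]
        apply Subtype.ext
        simp only [Matrix.SpecialLinearGroup.coe_mul, coe_eT, coe_transvectionT]
        ext i j
        fin_cases i <;> fin_cases j <;>
          simp [Matrix.mul_apply, Fin.sum_univ_three, Matrix.transvection, Matrix.single]) (fun G _ v hv hrel => by
      have hall : ∀ z ∈ L.map (FreeGroup.lift v), z = 1 := by
        intro z hz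
        obtain ⟨r, hr, rfl⟩ := List.mem_map.1 hz
        exact hrel r hr
      rw [hL, List.map_append, hbaseF, hvF, lift_baseW, lift_cosetW] at hall
      obtain ⟨R, e1, e2, e3, e4, e5, hcl⟩ := hcore G v hv fun z hz => hall z (List.mem_append_left _ hz)
      have hev : ∀ P, ev (v 3 * v 1 * (v 3)⁻¹) (v 0) P =
          R.Φ (Multiplicative.ofAdd (aeval (w : F)⁻¹ P)) :=
        ev_of_field_hom R.Φ e5 fun y => by
          have := R.act1 y
          rwa [e1, e2, e4] at this
      have hc1 : ∀ a b, R.Comm1 a b := R.comm1_of_cosets fun r hr => by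
        have := hall _ (List.mem_append_right _ (List.mem_map.2 ⟨r, List.mem_range.2 hr, rfl⟩))
        simp only [cosetW, mul_inv_eq_one, hev, hPr'] at this
        show R.x 0 1 1 * R.x 1 2 _ = R.x 0 2 (1 * _) * R.x 1 2 _ * R.x 0 1 1
        rw [one_mul, R.x_zero_one, e5, hrootR R, hrootR R, e1, e3, e4]
        exact this
      have h1 := R.comm1_all hc1
      have h2 : ∀ y : F, y + y = 0 := CharTwo.add_self_eq_zero
      have h0 := R.comm0_of_char_two h2 h1
      have hrow : ∀ a b, Commute (R.x 0 1 a) (R.x 0 2 b) := fun a b => by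
        by_cases ha : a = 0
        · rw [ha, R.x_zero]; exact Commute.one_left _
        have := (h0 0 1 2 (by decide) (by decide) (by decide) a (b / a)).1
        rwa [mul_div_cancel₀ _ ha] at this
      have hcol : ∀ a b, Commute (R.x 0 1 a) (R.x 2 1 b) := fun a b => by
        by_cases hb : b = 0
        · rw [hb, R.x_zero]; exact Commute.one_right _
        have := (h0 0 2 1 (by decide) (by decide) (by decide) (a / b) b).2
        rw [div_mul_cancel₀ _ hb] at this
        exact this.symm
      exact card_le_SL (by norm_num) (R.sys (R.comm0_all hrow hcol) h1) hcl)⟩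
    simp [hL, hbase_len]
  · set L := base ++ oddW (vF 0) (vF 2) (vF 3) with hL
    refine ⟨![u₀, h₀, sT, cT], L, rfl, ?_, univ_of_bound ![u₀, h₀, sT, cT] L hgenT (by
      refine fun z hz => ?_
      have hz' := List.mem_map_of_mem (f := FreeGroup.lift ![u₀, h₀, sT, cT]) hz
      rw [hL, List.map_append, hbaseF, hvF, lift_baseW, lift_oddW, List.mem_append] at hz'
      rcases hz' with hz' | hz'
      · exact hbase _ (by simpa using hz')
      · revert hz'
        generalize FreeGroup.lift ![u₀, h₀, sT, cT] z = g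
        revert g
        simp only [oddW, List.forall_mem_cons, List.not_mem_nil, false_imp_iff, implies_true, and_true,
          Matrix.cons_val, mul_inv_eq_one, hu₀]
        refine ⟨?_, ?_, ?_⟩
        all_goals
          simp only [hroot _ _ (show (0 : Fin 3) ≠ 2 by decide), hroot _ _ (show (2 : Fin 3) ≠ 1 by decide),
            hroot _ _ (show (1 : Fin 3) ≠ 2 by decide)]
          apply Subtype.ext
          simp only [Matrix.SpecialLinearGroup.coe_mul, coe_eT, coe_transvectionT]
          ext i j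
          fin_cases i <;> fin_cases j <;>
            simp [Matrix.mul_apply, Fin.sum_univ_three, Matrix.transvection, Matrix.single]) (fun G _ v hv hrel => by
      have hall : ∀ z ∈ L.map (FreeGroup.lift v), z = 1 := by
        intro z hz
        obtain ⟨r, hr, rfl⟩ := List.mem_map.1 hz
        exact hrel r hr
      rw [hL, List.map_append, hbaseF, hvF, lift_baseW, lift_oddW] at hall
      obtain ⟨R, e1, e2, e3, e4, e5, hcl⟩ := hcore G v hv fun z hz => hall z (List.mem_append_left _ hz)
      have hodd : ∀ z ∈ oddW (v 0) (v 2) (v 3), z = 1 := fun z hz => hall z (List.mem_append_right _ hz)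
      simp only [oddW, List.forall_mem_cons, List.not_mem_nil, false_imp_iff, implies_true, and_true,
        mul_inv_eq_one] at hodd
      rw [← e5, ← e3, ← e4] at hodd
      have hspan := cubeSpan hp2 hF hgen
      have hrow := R.row01 hspan (by
        rw [R.x_zero_one]
        exact hodd.1)
      have hcol := R.col01 hspan (by
        rw [R.x_zero_one]
        exact hodd.2.1)
      have h0 := R.comm0_all hrow hcol
      have hc1 := R.comm1_of_span hspan (h0 1 2 0 2 (by decide) (by decide) (by decide) (by decide)) (by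
        show R.x 0 1 1 * R.x 1 2 1 = R.x 0 2 (1 * 1) * R.x 1 2 1 * R.x 0 1 1
        rw [one_mul]
        rw [R.x_zero_one]
        exact hodd.2.2)
      exact card_le_SL (by norm_num) (R.sys h0 (R.comm1_all hc1)) hcl)⟩
    simp [hL, hbase_len, oddW]

end CfsgLib.SLFewRels
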