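import Cfsg.Agent.Lib.SLFewRels.Core
import Cfsg.Agent.Lib.SLFewRels.SL3On
import Cfsg.Agent.Lib.BoundedPres.On

/-!
A presentation of `SL_n(F)` with three generators and fourteen relations more than one of the
alternating group, plus three gluing relations.
-/

set_option autoImplicit false

namespace CfsgLib.SLFewRels

open Equiv
open CfsgLib.BoundedPres
open CfsgLib.PresentSL3 (sT cT dgT)

variable {F : Type*} [Field F]

theorem aA_zero : aA 0 = 1 ∧ aFlag 0 = false := by
  have h : rotRest 0 = 1 := by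
    refine Equiv.ext fun x => ?_
    induction x using Fin.cases with
    | zero => exact rotRest_zero 0
    | succ j =>
      rw [rotRest_succ]
      exact congrArg Fin.succ (Fin.ext (by omega))
  exact ⟨by rw [aA, h, map_one], by simp [aFlag, h]⟩

/-- The number of gluing relations. -/
def glueCount (k : ℕ) : ℕ := if k = 1 then 4 else 3

theorem lift_self {A : Type} (z : FreeGroup A) : FreeGroup.lift (fun x => FreeGroup.of x) z = z :=
  DFunLike.congr_fun (FreeGroup.ext_hom (FreeGroup.lift fun x => FreeGroup.of x) (MonoidHom.id _)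
    fun i => by simp) z

/-- Evaluation of substituted words. -/
theorem lift_subst {A B : Type} {T : Type*} [Group T] {H : Type*} [Group H] (s : FreeGroup A →* FreeGroup B)
    (f : B → H) (v : A → T) (ι : T →* H) (h : ∀ x, ι (v x) = FreeGroup.lift f (s (FreeGroup.of x)))
    (z : FreeGroup A) : FreeGroup.lift f (s z) = ι (FreeGroup.lift v z) := by
  rw [hom_lift ι h]
  have := hom_lift ((FreeGroup.lift f).comp s) (v := fun x => FreeGroup.of x)
    (f := fun x => FreeGroup.lift f (s (FreeGroup.of x))) (fun x => rfl) z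
  rw [lift_self, MonoidHom.comp_apply] at this
  exact this

/-- The glued presentation. -/
theorem presOn_SL [Fintype F] (k : ℕ) {y : Matrix.SpecialLinearGroup (Fin 2) F} (hy : GoodY y)
    {X : Type} {r : ℕ} (hA : PresOn X (alternatingGroup (Fin (3 + (k + 1)))) r) :
    PresOn (Fin 3 ⊕ X) (Matrix.SpecialLinearGroup (Fin (3 + (k + 1))) F) (14 + r + glueCount k) := by
  classical
  have hm : 1 ≤ k + 1 := by omega
  obtain ⟨w, hgen⟩ : ∃ w : Fˣ, ∀ x : Fˣ, x ∈ Subgroup.zpowers w := IsCyclic.exists_generator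
  obtain ⟨v3, L3, hc3, hl3, hv3, hg3, huniv3⟩ := presentation_sl_three_cycle (F := F)
  obtain ⟨vA, LA, hlA, hvA, hgA, hunivA⟩ := hA
  choose w3 hw3 using fun g : Matrix.SpecialLinearGroup (Fin 3) F => exists_word hg3 g
  choose wA hwA using fun g : alternatingGroup (Fin (3 + (k + 1))) => exists_word hgA g
  let iA : FreeGroup X →* FreeGroup (Fin 3 ⊕ X) := FreeGroup.lift fun x => FreeGroup.of (Sum.inr x)
  let P : alternatingGroup (Fin (3 + (k + 1))) → FreeGroup (Fin 3 ⊕ X) := fun g => iA (wA g)
  let sub : FreeGroup (Fin 4) →* FreeGroup (Fin 3 ⊕ X) :=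
    FreeGroup.lift ![FreeGroup.of (Sum.inl 0), FreeGroup.of (Sum.inl 1), FreeGroup.of (Sum.inl 2),
      P (cycA (k + 1))]
  let W : Matrix.SpecialLinearGroup (Fin 3) F → FreeGroup (Fin 3 ⊕ X) := fun g => sub (w3 g)
  let Y := W (j2 y)
  let Z := W (j2 (swapY y))
  let T := P (revA (k + 1) hm)
  let A := P (aA k)
  let O := P (oppA (k + 1) hm)
  let cm : FreeGroup (Fin 3 ⊕ X) → FreeGroup (Fin 3 ⊕ X) → FreeGroup (Fin 3 ⊕ X) :=
    fun a b => a * b * a⁻¹ * b⁻¹
  let L : List (FreeGroup (Fin 3 ⊕ X)) := L3.map sub ++ (LA.map iA ++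
    ([T * Y * T⁻¹ * Z⁻¹, cm Y (O * Y * O⁻¹)] ++
      ((if k = 0 then [] else [A * Y * A⁻¹ * (if aFlag k then Z else Y)⁻¹]) ++
        (if 2 ≤ k then [] else [cm Y (O * Z * O⁻¹)]))))
  have hlen : L.length ≤ 14 + r + glueCount k := by
    simp only [L, glueCount, List.length_append, List.length_map, List.length_cons, List.length_nil]
    split_ifs <;> simp <;> omega
  refine PresOn.mono ?_ hlen
  set v2 : Fin 3 ⊕ X → Matrix.SpecialLinearGroup (Fin (3 + (k + 1))) F :=
    Sum.elim (fun i => blockSL (3 + (k + 1)) (k + 1) rfl (v3 i.castSucc))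
      (fun x => permSL (3 + (k + 1)) (vA x)) with hv2
  have hcyc : blockSL (3 + (k + 1)) (k + 1) rfl (cT : Matrix.SpecialLinearGroup (Fin 3) F) =
      permSL (3 + (k + 1)) (cycA (k + 1)) := blockSL_cT rfl _ rfl
  have hsub2 : ∀ x, blockSL (3 + (k + 1)) (k + 1) rfl (v3 x) = FreeGroup.lift v2 (sub (FreeGroup.of x)) := by
    intro x
    have e3 : blockSL (3 + (k + 1)) (k + 1) rfl (v3 3) = FreeGroup.lift v2 (P (cycA (k + 1))) := by
      rw [hc3, hcyc, lift_subst iA v2 vA (permSL _) (fun x => by simp [iA, v2]), hwA]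
    fin_cases x <;> simp [sub] <;> first | exact e3 | rfl
  have hW2 : ∀ g, FreeGroup.lift v2 (W g) = blockSL (3 + (k + 1)) (k + 1) rfl g := fun g => by
    rw [lift_subst sub v2 v3 _ hsub2, hw3]
  have hP2 : ∀ g, FreeGroup.lift v2 (P g) = permSL (3 + (k + 1)) g := fun g => by
    rw [lift_subst iA v2 vA (permSL _) (fun x => by simp [iA, v2]), hwA]
  obtain ⟨a0, a1⟩ := aA_first k
  refine PresOn.of_bound v2 L ?_ ?_ ?_
  · intro z hz
    simp only [L, List.mem_append, List.mem_cons, List.not_mem_nil, or_false, List.mem_map] at hz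
    have hE := first3_inj (k + 1)
    have hne := first3_ne_fourth (m := k + 1) hm
    obtain ⟨r0, r1, -, -⟩ := dswap_apply (hab := hE.ne (show (0 : Fin 3) ≠ 1 by decide))
      (hcd := hne 2) (hE.ne (show (0 : Fin 3) ≠ 2 by decide)) (hne 0) (hE.ne (show (1 : Fin 3) ≠ 2 by decide))
      (hne 1)
    have hτY := permSL_j2 (F := F) (revA (k + 1) hm) true r0 r1 y
    simp only [if_true] at hτY
    have hopp : ∀ x, Commute (blockSL (3 + (k + 1)) (k + 1) rfl (j2 y))
        (permSL (3 + (k + 1)) (oppA (k + 1) hm) * blockSL (3 + (k + 1)) (k + 1) rfl (j2 x) *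
          (permSL (3 + (k + 1)) (oppA (k + 1) hm))⁻¹) := by
      intro x
      have o : ∀ a ∈ [first3 (k + 1) 0, first3 (k + 1) 1], ∀ b ∈ [first3 (k + 1) 0, first3 (k + 1) 1],
          (oppA (k + 1) hm : Perm (Fin (3 + (k + 1)))) a ≠ b := by
        obtain ⟨e0, -, e1, -⟩ := dswap_apply (hab := hE.ne (show (0 : Fin 3) ≠ 2 by decide)) (hcd := hne 1)
          (hE.ne (show (0 : Fin 3) ≠ 1 by decide)) (hne 0) (hE.ne (show (2 : Fin 3) ≠ 1 by decide)) (hne 2)
        have h3 : ∀ i : Fin 3, fourth (k + 1) hm ≠ first3 (k + 1) i := fun i => (hne i).symm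
        intro a ha b hb
        simp only [List.mem_cons, List.not_mem_nil, or_false] at ha hb
        rcases ha with ha | ha <;> rcases hb with hb | hb <;> rw [ha, hb, oppA] <;>
          first
            | (rw [e0]; exact hE.ne (by decide))
            | (rw [e1]; exact h3 _)
      let B := (blockSL (F := F) (3 + (k + 1)) (k + 1) rfl).comp j2
      refine commute_of_closure B
        ((MulAut.conj (permSL (3 + (k + 1)) (oppA (k + 1) hm))).toMonoidHom.comp B)
        {g | ∃ (a b : Fin 2) (hab : a ≠ b) (c : F), g = Matrix.SpecialLinearGroup.transvection hab c}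
        (CfsgLib.Linear.SL_eq_top_of_transvection_mem _ fun a b hab c =>
          Subgroup.subset_closure ⟨a, b, hab, c, rfl⟩) ?_ y x
      rintro _ ⟨a, b, hab, c, rfl⟩ _ ⟨a', b', hab', c', rfl⟩
      have h00 := o (first3 (k + 1) 0) (by simp) (first3 (k + 1) 0) (by simp)
      have h01 := o (first3 (k + 1) 0) (by simp) (first3 (k + 1) 1) (by simp)
      have h10 := o (first3 (k + 1) 1) (by simp) (first3 (k + 1) 0) (by simp)
      have h11 := o (first3 (k + 1) 1) (by simp) (first3 (k + 1) 1) (by simp)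
      show Commute (blockSL _ _ rfl (j2 _)) (permSL _ _ * blockSL _ _ rfl (j2 _) * (permSL _ _)⁻¹)
      fin_cases a <;> fin_cases b <;> first | exact absurd rfl hab | skip
      all_goals fin_cases a' <;> fin_cases b' <;> first | exact absurd rfl hab' | skip
      all_goals
        simp only [Fin.zero_eta, Fin.mk_one, j2_upper, j2_lower, blockSL_root, permSL_conj]
        exact transvection_commute _ _ (Ne.symm (by assumption)) (Ne.symm (by assumption)) _ _
    rcases hz with ⟨u, hu, rfl⟩ | ⟨u, hu, rfl⟩ | (rfl | rfl) | hz | hz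
    · rw [lift_subst sub v2 v3 _ hsub2, hv3 u hu, map_one]
    · rw [lift_subst iA v2 vA (permSL _) (fun x => by simp [iA, v2]), hvA u hu, map_one]
    · simp only [T, Y, Z, map_mul, map_inv, hW2, hP2, mul_inv_eq_one]
      exact hτY
    · simp only [cm, O, Y, map_mul, map_inv, hW2, hP2]
      rw [(hopp y).eq]; group
    · by_cases hk : k = 0
      · simp [hk] at hz
      · rw [if_neg hk, List.mem_singleton] at hz
        subst hz
        have := permSL_j2 (F := F) (aA k) (aFlag k) a0 a1 y
        simp only [A, Y, Z, map_mul, map_inv, hW2, hP2, mul_inv_eq_one, apply_ite (FreeGroup.lift v2)]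
        rw [this]
        cases hfl : aFlag k <;> simp
    · by_cases hk : 2 ≤ k
      · simp [hk] at hz
      · rw [if_neg hk, List.mem_singleton] at hz
        subst hz
        simp only [cm, O, Y, Z, map_mul, map_inv, hW2, hP2]
        rw [(hopp (swapY y)).eq]; group
  · let R := Subgroup.closure (Set.range v2)
    have hB' : ∀ g, blockSL (3 + (k + 1)) (k + 1) rfl g ∈ R := fun g => by
      show _ ∈ Subgroup.closure (Set.range v2)
      rw [← hW2 g, ← FreeGroup.range_lift_eq_closure]
      exact ⟨_, rfl⟩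
    have hA' : ∀ g, permSL (3 + (k + 1)) g ∈ R := fun g => by
      show _ ∈ Subgroup.closure (Set.range v2)
      rw [← hP2 g, ← FreeGroup.range_lift_eq_closure]
      exact ⟨_, rfl⟩
    refine CfsgLib.Linear.SL_eq_top_of_transvection_mem _ fun i j hij c => ?_
    obtain ⟨g, h0, h1⟩ := exists_pair_map (m := k + 1) hm hij
    have e := permSL_conj (F := F) g ((first3_inj (k + 1)).ne (show (0 : Fin 3) ≠ 1 by decide)) c
    simp only [h0, h1] at e
    rw [← e, ← blockSL_root (show (0 : Fin 3) ≠ 1 by decide)]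
    exact R.mul_mem (R.mul_mem (hA' g) (hB' _)) (R.inv_mem (hA' g))
  · intro G _ φ f hφf hf hk
    obtain ⟨ι, hι⟩ := huniv3 G (fun x => FreeGroup.lift f (sub (FreeGroup.of x))) fun z hz => by
      have h := hk _ (List.mem_append_left _ (List.mem_map_of_mem hz))
      have e := hom_lift ((FreeGroup.lift f).comp sub) (v := fun x => FreeGroup.of x)
        (f := fun x => FreeGroup.lift f (sub (FreeGroup.of x))) (fun x => rfl) z
      rw [lift_self, MonoidHom.comp_apply] at e
      exact e.symm.trans h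
    obtain ⟨ψ, hψ⟩ := hunivA G (fun x => f (Sum.inr x)) fun z hz => by
      have h := hk _ (List.mem_append_right _ (List.mem_append_left _ (List.mem_map_of_mem hz)))
      rw [← hom_lift (FreeGroup.lift f) (v := fun x => FreeGroup.of (Sum.inr x)) (fun x => by simp) z]
      exact h
    have hW : ∀ g, FreeGroup.lift f (W g) = ι g := fun g => by rw [lift_subst sub f v3 ι hι, hw3]
    have hP : ∀ g, FreeGroup.lift f (P g) = ψ g := fun g => by rw [lift_subst iA f vA ψ (fun x => by simp [iA, hψ]), hwA]
    have rc : ι cT = ψ (cycA (k + 1)) := by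
      rw [← hc3, hι, ← hP]
      simp [sub]
    have hrel : ∀ a b, a * b⁻¹ ∈ L → FreeGroup.lift f a = FreeGroup.lift f b := by
      intro a b hab
      have := hk _ hab
      rwa [map_mul, map_inv, mul_inv_eq_one] at this
    have rt := hrel (T * Y * T⁻¹) Z (by simp [L])
    simp only [T, Y, Z, map_mul, map_inv, hW, hP] at rt
    have ra : ψ (aA k) * ι (j2 y) * (ψ (aA k))⁻¹ = ι (if aFlag k then j2 (swapY y) else j2 y) := by
      by_cases hk0 : k = 0
      · subst hk0
        rw [aA_zero.1, aA_zero.2]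
        simp
      · have h := hrel (A * Y * A⁻¹) (if aFlag k then Z else Y) (by simp [L, hk0])
        simp only [A, Y, Z, map_mul, map_inv, hW, hP, apply_ite (FreeGroup.lift f)] at h
        rw [h]
        cases hfl : aFlag k <;> simp
    have hcm : ∀ a b, cm a b ∈ L → Commute (FreeGroup.lift f a) (FreeGroup.lift f b) := by
      intro a b hab
      have := hk _ hab
      simp only [cm, map_mul, map_inv, mul_inv_eq_one, mul_inv_eq_iff_eq_mul, one_mul] at this
      exact this
    have rd := hcm Y (O * Y * O⁻¹) (by simp [L])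
    simp only [O, Y, map_mul, map_inv, hW, hP] at rd
    refine card_le_few k hgen ι ψ hy rc rt ra rd ?_ ?_
    · by_cases hk2 : 2 ≤ k
      · exact Or.inl hk2
      · have rd' := hcm Y (O * Z * O⁻¹) (by simp [L, hk2])
        simp only [O, Y, Z, map_mul, map_inv, hW, hP] at rd'
        exact Or.inr rd'
    · rw [eq_top_iff, ← hf, Subgroup.closure_le]
      rintro _ ⟨x | x, rfl⟩
      · refine Subgroup.mem_sup_left ⟨v3 x.castSucc, ?_⟩
        rw [hι]
        fin_cases x <;> simp [sub]
      · exact Subgroup.mem_sup_right ⟨vA x, hψ x⟩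

end CfsgLib.SLFewRels
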