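import Cfsg.Agent.Lib.SLFewRels.Borel
import Cfsg.Agent.Lib.PSL2Sub.Generation
import Cfsg.Agent.Lib.PSL2Sub.PSL
import Cfsg.Agent.Lib.PSL2Sub.MaxTypes

/-!
An element of the block generating it together with its swap conjugate.
-/

set_option autoImplicit false

namespace CfsgLib.SLFewRels

open Matrix CfsgLib.PSL2Sub
open CfsgLib.PresentSL3 (cT)
open scoped commutatorElement

theorem s4_pow : ∀ g : Equiv.Perm (Fin 4), g ^ 3 = 1 ∨ g ^ 4 = 1 := by decide +kernel

theorem a4_pow : ∀ g : alternatingGroup (Fin 4), g ^ 2 = 1 ∨ g ^ 3 = 1 := by decide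

theorem dihedral_commute {k : ℕ} {a b : DihedralGroup k} (ha : 3 ≤ orderOf a) (hb : 3 ≤ orderOf b) :
    Commute a b := by
  cases a with
  | sr i => rw [DihedralGroup.orderOf_sr] at ha; omega
  | r i =>
    cases b with
    | sr j => rw [DihedralGroup.orderOf_sr] at hb; omega
    | r j => show DihedralGroup.r i * DihedralGroup.r j = DihedralGroup.r j * DihedralGroup.r i
             simp [add_comm]

variable {F : Type*} [Field F]

theorem borelY_pow (w : Fˣ) (β : F) (j : ℕ) :
    ((borelY w β ^ j : Matrix.SpecialLinearGroup (Fin 2) F) : Matrix (Fin 2) (Fin 2) F) 0 0 = (w : F) ^ j ∧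
    ((borelY w β ^ j : Matrix.SpecialLinearGroup (Fin 2) F) : Matrix (Fin 2) (Fin 2) F) 1 0 = 0 ∧
    ((borelY w β ^ j : Matrix.SpecialLinearGroup (Fin 2) F) : Matrix (Fin 2) (Fin 2) F) 1 1 = ((w : F)⁻¹) ^ j := by
  induction j with
  | zero => simp
  | succ j ih =>
    rw [pow_succ, pow_succ, pow_succ]
    simp only [Matrix.SpecialLinearGroup.coe_mul, Matrix.mul_apply, Fin.sum_univ_two, coe_borelY, ih.1, ih.2.1, ih.2.2]
    simp

theorem swapY_mul (a b : Matrix.SpecialLinearGroup (Fin 2) F) : swapY (a * b) = swapY a * swapY b := by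
  apply Subtype.ext
  simp only [Matrix.SpecialLinearGroup.coe_mul, coe_swapY]
  ext i j
  fin_cases i <;> fin_cases j <;> simp [Matrix.mul_apply, Fin.sum_univ_two] <;> ring

/-- The swap as a homomorphism. -/
def swapHom : Matrix.SpecialLinearGroup (Fin 2) F →* Matrix.SpecialLinearGroup (Fin 2) F :=
  MonoidHom.mk' swapY swapY_mul

theorem center_cases {g : Matrix.SpecialLinearGroup (Fin 2) F} (hg : g ∈ Subgroup.center _) :
    g.1 0 1 = 0 ∧ g.1 1 0 = 0 ∧ g.1 0 0 = g.1 1 1 ∧ g.1 0 0 * g.1 0 0 = 1 := by
  obtain ⟨r, hr, hg⟩ := Matrix.SpecialLinearGroup.mem_center_iff.1 hg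
  rw [← hg]
  simp only [Fintype.card_fin] at hr
  simp [Matrix.scalar_apply, ← pow_two, hr]

variable [Fintype F]

/-- The generation criterion by Dickson's classification. -/
theorem closure_borel {w : Fˣ} (hgen : ∀ x : Fˣ, x ∈ Subgroup.zpowers w) (h8 : 8 ≤ Fintype.card F)
    (h9 : Fintype.card F ≠ 9) (hnp : ¬ (Fintype.card F).Prime) :
    Subgroup.closure ({borelY w (1 - (w : F) * w), swapY (borelY w (1 - (w : F) * w))} :
      Set (Matrix.SpecialLinearGroup (Fin 2) F)) = ⊤ := by
  classical
  set q := Fintype.card F with hq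
  set β : F := 1 - (w : F) * w with hβ
  have hw0 : (w : F) ≠ 0 := w.ne_zero
  have hord : orderOf w = q - 1 := by
    rw [orderOf_eq_card_of_forall_mem_zpowers hgen, Nat.card_units, Nat.card_eq_fintype_card]
  have hwpow : ∀ j, 0 < j → j < q - 1 → (w : F) ^ j ≠ 1 := by
    intro j h0 hlt e
    have := Nat.le_of_dvd h0 (orderOf_dvd_of_pow_eq_one (Units.ext (by simpa using e) : w ^ j = 1))
    omega
  have hw2 : (w : F) * w ≠ 1 := by rw [← pow_two]; exact hwpow 2 (by omega) (by omega)
  have hw4 : ((w : F) * w) * (w * w) ≠ 1 := by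
    rw [← pow_two, ← pow_two, ← pow_mul]; exact hwpow 4 (by omega) (by omega)
  have hβ0 : β ≠ 0 := sub_ne_zero.2 (Ne.symm hw2)
  set y := borelY w β
  set z := swapY y
  set S := Subgroup.closure ({y, z} : Set (Matrix.SpecialLinearGroup (Fin 2) F)) with hS
  let π : Matrix.SpecialLinearGroup (Fin 2) F →* PS F := QuotientGroup.mk' _
  have hπ : ∀ {g}, π g = 1 → g ∈ Subgroup.center (Matrix.SpecialLinearGroup (Fin 2) F) :=
    fun h => (QuotientGroup.eq_one_iff _).1 h
  set H := S.map π with hH
  set k := orderOf (π y) with hk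
  have hzy : ∀ j, z ^ j = swapY (y ^ j) := fun j => (map_pow swapHom y j).symm
  have hkey : ∀ j, π y ^ j = 1 → q - 1 ∣ 2 * j := by
    intro j hj
    rw [← map_pow] at hj
    obtain ⟨-, -, -, h4⟩ := center_cases (hπ hj)
    rw [(borelY_pow w β j).1, ← pow_add] at h4
    rw [← hord, two_mul]
    exact orderOf_dvd_of_pow_eq_one (Units.ext (by simpa using h4))
  have hkz : orderOf (π z) = k := by
    refine (orderOf_eq_orderOf_iff).2 fun j => ?_
    rw [← map_pow, ← map_pow]
    constructor
    · intro h
      obtain ⟨a, b, c, d⟩ := center_cases (hπ h)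
      rw [hzy] at a b c d
      simp only [coe_swapY, Matrix.of_apply, Matrix.cons_val', Matrix.cons_val_zero, Matrix.cons_val_one,
        Matrix.cons_val_fin_one, Matrix.empty_val'] at a b c d
      refine (QuotientGroup.eq_one_iff _).2 (Matrix.SpecialLinearGroup.mem_center_iff.2 ⟨(y ^ j).1 0 0, ?_, ?_⟩)
      · rw [Fintype.card_fin, pow_two, ← c]; exact d
      · ext r s
        fin_cases r <;> fin_cases s <;> simp [Matrix.scalar_apply, a, b, c]
    · intro h
      obtain ⟨a, b, c, d⟩ := center_cases (hπ h)
      refine (QuotientGroup.eq_one_iff _).2 (Matrix.SpecialLinearGroup.mem_center_iff.2 ⟨(y ^ j).1 0 0, ?_, ?_⟩)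
      · rw [Fintype.card_fin, pow_two]; exact d
      · rw [hzy]
        ext r s
        fin_cases r <;> fin_cases s <;> simp [Matrix.scalar_apply, coe_swapY, a, b, c]
  obtain ⟨p, hpF⟩ := CharP.exists F
  haveI : Fact p.Prime := ⟨CharP.char_is_prime F p⟩
  obtain ⟨e, -, hF⟩ := FiniteField.card F p
  have he2 : 2 ≤ (e : ℕ) := by
    by_contra h
    have : (e : ℕ) = 1 := by have := e.pos; omega
    apply hnp
    rw [hq, hF, this, pow_one]
    exact Fact.out
  have hdvd : q - 1 ∣ 2 * k := hkey k (pow_orderOf_eq_one _)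
  have hkpos : 0 < k := orderOf_pos _
  have hk2 : q - 1 ≤ 2 * k := Nat.le_of_dvd (by omega) hdvd
  have hk7 : 7 ≤ k := by
    rcases eq_or_ne p 2 with hp | hp
    · have hodd : Nat.Coprime (q - 1) 2 := by
        rw [Nat.coprime_two_right, hq, hF, hp, Nat.odd_iff]
        have : 2 ^ (e : ℕ) % 2 = 0 := Nat.dvd_iff_mod_eq_zero.1 (dvd_pow_self 2 (by omega))
        have := Nat.one_le_two_pow (n := (e : ℕ))
        omega
      have := Nat.le_of_dvd hkpos (hodd.dvd_of_dvd_mul_left hdvd)
      omega
    · have hp3 : 3 ≤ p := by have := (Fact.out : p.Prime).two_le; omega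
      have : 25 ≤ q := by
        rcases eq_or_ne p 3 with h3 | h3
        · subst h3
          have : (e : ℕ) ≠ 2 := fun h => h9 (by rw [hq, hF, h]; norm_num)
          calc 25 ≤ 3 ^ 3 := by norm_num
            _ ≤ 3 ^ (e : ℕ) := Nat.pow_le_pow_right (by norm_num) (by omega)
            _ = q := by rw [hq, hF]
        · have h4 : p ≠ 4 := fun h => by have := h ▸ (Fact.out : p.Prime); norm_num at this
          calc 25 = 5 ^ 2 := by norm_num
            _ ≤ p ^ 2 := Nat.pow_le_pow_left (by omega) 2
            _ ≤ p ^ (e : ℕ) := Nat.pow_le_pow_right (by omega) he2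
            _ = q := by rw [hq, hF]
      omega
  have hyH : π y ∈ H := Subgroup.mem_map_of_mem π (Subgroup.subset_closure (by simp))
  have hzH : π z ∈ H := Subgroup.mem_map_of_mem π (Subgroup.subset_closure (by simp))
  have hnc : ¬ Commute (π y) (π z) := by
    intro h
    have h1 : π (y * z * (z * y)⁻¹) = 1 := by
      rw [map_mul, map_inv, map_mul π y z, map_mul π z y, h.eq, mul_inv_cancel]
    obtain ⟨a, b, c, d⟩ := center_cases (hπ h1)
    set g := y * z * (z * y)⁻¹ with hg
    have hgeq : g * (z * y) = y * z := by rw [hg]; group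
    have e00 := congrArg (fun M : Matrix.SpecialLinearGroup (Fin 2) F => M.1 0 0) hgeq
    have e01 := congrArg (fun M : Matrix.SpecialLinearGroup (Fin 2) F => M.1 0 1) hgeq
    simp only [Matrix.SpecialLinearGroup.coe_mul, Matrix.mul_apply, Fin.sum_univ_two, a, z, y, coe_swapY,
      coe_borelY, Matrix.of_apply, Matrix.cons_val', Matrix.cons_val_zero, Matrix.cons_val_one,
      Matrix.cons_val_fin_one, Matrix.empty_val', Units.val_inv_eq_inv_val, zero_mul, mul_zero, add_zero,
      zero_add, inv_mul_cancel₀ hw0, mul_inv_cancel₀ hw0, mul_one] at e00 e01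
    field_simp at e01
    rcases mul_self_eq_one_iff.1 d with hr | hr
    · rw [hr] at e00
      have : β * β = 0 := by linear_combination -e00
      exact hβ0 (mul_self_eq_zero.1 this)
    · rw [hr] at e01
      have h' : (w : F) * w + 1 = 0 := by
        first
          | linear_combination e01
          | linear_combination -e01
      exact hw4 (by linear_combination ((w : F) * w - 1) * h')
  let Y : H := ⟨π y, hyH⟩
  let Z : H := ⟨π z, hzH⟩
  have hYk : orderOf Y = k := (Subgroup.orderOf_coe Y).symm
  have hZk : orderOf Z = k := (Subgroup.orderOf_coe Z).symm.trans hkz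
  have hncH : ¬ Commute Y Z := fun h => hnc (congrArg Subtype.val h.eq)
  have hsmall : ∀ n, 0 < n → Y ^ n = 1 → 7 ≤ n := by
    intro n hn hY
    have := Nat.le_of_dvd hn (orderOf_dvd_of_pow_eq_one hY)
    omega
  have hsmall' : ∀ {M : Type} [Group M] (f : H ≃* M) (n : ℕ), f Y ^ n = 1 → 0 < n → 7 ≤ n :=
    fun f n h hn => hsmall n hn (f.injective (by rw [map_pow, h, map_one]))
  have htop : H = ⊤ := by
    rcases classify_psl p H with h | h | h | h | h | h | h
    · obtain ⟨g, hg⟩ := h.1
      obtain ⟨a, ha⟩ := hg Y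
      obtain ⟨b, hb⟩ := hg Z
      exfalso
      exact hncH (ha ▸ hb ▸ (Commute.refl g).zpow_zpow a b)
    · obtain ⟨n, -, -, -, ⟨f⟩⟩ := h
      exfalso
      have hc := dihedral_commute (a := f Y) (b := f Z) (by rw [f.orderOf_eq]; omega) (by rw [f.orderOf_eq]; omega)
      exact hncH (by simpa using hc.map f.symm.toMonoidHom)
    · obtain ⟨-, pt, hpt⟩ := h
      exfalso
      have fy := hpt _ hyH
      have fz := hpt _ hzH
      change (ProjGenLinGroup.mk (SpecialLinearGroup.toGL y) : PG F) • pt = pt at fy
      change (ProjGenLinGroup.mk (SpecialLinearGroup.toGL z) : PG F) • pt = pt at fz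
      rw [mk_smul_onePoint] at fy fz
      cases pt with
      | infty =>
        rw [OnePoint.smul_infty_eq_self_iff] at fz
        simp [z, y, coe_swapY, coe_borelY, hβ0] at fz
      | coe x =>
        rw [OnePoint.smul_some_eq_ite] at fy fz
        split_ifs at fy with hdy
        · exact absurd fy.symm (OnePoint.coe_ne_infty x)
        split_ifs at fz with hd
        · exact absurd fz.symm (OnePoint.coe_ne_infty x)
        rw [OnePoint.coe_eq_coe] at fy fz
        simp [z, y, coe_swapY, coe_borelY, hw0] at fy fz hd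
        have hz2 := fz
        have hx : x = (w : F) := by
          have h0 : ((w : F) * w - 1) * (x - w) = 0 := by
            field_simp at fy
            rw [hβ] at fy
            linear_combination fy
          exact sub_eq_zero.1 ((mul_eq_zero.1 h0).resolve_left (sub_ne_zero.2 hw2))
        subst hx
        rw [div_eq_iff hd, hβ] at hz2
        field_simp at hz2
        exact hw2 (by
          have h0 : ((w : F) * w - 1) * ((w : F) * w - 1) = 0 := by linear_combination hz2
          exact sub_eq_zero.1 (mul_self_eq_zero.1 h0))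
    · obtain ⟨-, ⟨f⟩⟩ := h
      exfalso
      rcases a4_pow (f Y) with h | h <;>
      · have := hsmall' f _ h (by norm_num)
        omega
    · obtain ⟨-, ⟨f⟩⟩ := h
      exfalso
      rcases s4_pow (f Y) with h | h <;>
      · have := hsmall' f _ h (by norm_num)
        omega
    · obtain ⟨-, ⟨f⟩⟩ := h
      exfalso
      rcases alt_five_pow (f Y) with h | h | h <;>
      · have := hsmall' f _ h (by norm_num)
        omega
    · obtain ⟨E, hE⟩ := h
      letI := Fintype.ofFinite E
      set c := Fintype.card E
      obtain ⟨m, hm0, hm⟩ := card_subfield_pow E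
      rw [Nat.card_eq_fintype_card] at hm
      have hcard : Nat.card H = Nat.card (PG E) ∨ Nat.card H = Nat.card (PS E) :=
        hE.imp (fun ⟨f⟩ => Nat.card_congr f.toEquiv) (fun ⟨_, ⟨f⟩⟩ => Nat.card_congr f.toEquiv)
      have hle : Nat.card H ≤ c * (c ^ 2 - 1) := by
        rw [← card_PG E]
        haveI : Finite (PG E) := Finite.of_surjective _ ProjGenLinGroup.mk_surjective
        rcases hcard with h | h <;> rw [h]
        exact Nat.card_le_card_of_injective _ toPG_injective
      have hc2 : 2 ≤ c := Fintype.one_lt_card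
      have hkk : k * k ≤ Nat.card H := by
        have hinj : Function.Injective (fun t : Subgroup.zpowers Y × Subgroup.zpowers Z => (t.1 : H) * t.2) := by
          have hdis : ∀ g ∈ Subgroup.zpowers Y, g ∈ Subgroup.zpowers Z → g = 1 := by
            intro g hgy hgz
            obtain ⟨i, rfl⟩ := (Submonoid.mem_powers_iff _ _).1 (mem_powers_iff_mem_zpowers.2 hgy)
            obtain ⟨j, hj⟩ := Submonoid.mem_powers_iff _ _ |>.1 (mem_powers_iff_mem_zpowers.2 hgz)
            have hj' : π z ^ j = π y ^ i := congrArg Subtype.val hj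
            apply Subtype.ext
            show π y ^ i = 1
            rw [← map_pow, ← map_pow] at hj'
            have hz1 : π (z ^ j * (y ^ i)⁻¹) = 1 := by rw [map_mul, map_inv, hj', mul_inv_cancel]
            obtain ⟨a, b, c, d⟩ := center_cases (hπ hz1)
            set g := z ^ j * (y ^ i)⁻¹ with hg
            have hgeq : g * y ^ i = z ^ j := by rw [hg]; group
            have e01 := congrArg (fun M : Matrix.SpecialLinearGroup (Fin 2) F => M.1 0 1) hgeq
            simp only [Matrix.SpecialLinearGroup.coe_mul, Matrix.mul_apply, Fin.sum_univ_two, a, zero_mul,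
              add_zero, hzy, coe_swapY, Matrix.of_apply, Matrix.cons_val', Matrix.cons_val_zero,
              Matrix.cons_val_one, Matrix.cons_val_fin_one, Matrix.empty_val', (borelY_pow w β j).2.1, y] at e01
            have hg0 : g.1 0 0 ≠ 0 := fun h0 => by rw [h0, zero_mul] at d; exact one_ne_zero d.symm
            have h01 := (mul_eq_zero.1 e01).resolve_left hg0
            have hcomm := congrArg (fun M : Matrix.SpecialLinearGroup (Fin 2) F => M.1 0 1)
              ((Commute.refl (borelY w β)).pow_right i).eq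
            simp only [Matrix.SpecialLinearGroup.coe_mul, Matrix.mul_apply, Fin.sum_univ_two, h01, coe_borelY,
              Matrix.of_apply, Matrix.cons_val', Matrix.cons_val_zero, Matrix.cons_val_one,
              Matrix.cons_val_fin_one, Matrix.empty_val', mul_zero, zero_mul, zero_add, add_zero] at hcomm
            have hd11 : ((borelY w β ^ i : SpecialLinearGroup (Fin 2) F) : Matrix (Fin 2) (Fin 2) F) 1 1 =
                ((borelY w β ^ i : SpecialLinearGroup (Fin 2) F) : Matrix (Fin 2) (Fin 2) F) 0 0 :=
              mul_left_cancel₀ hβ0 (by linear_combination hcomm)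
            have hdet := (borelY w β ^ i).2
            rw [Matrix.det_fin_two, h01, hd11, zero_mul, sub_zero] at hdet
            rw [← map_pow]
            refine (QuotientGroup.eq_one_iff _).2 (Matrix.SpecialLinearGroup.mem_center_iff.2
              ⟨(borelY w β ^ i).1 0 0, by rw [Fintype.card_fin, pow_two]; exact hdet, ?_⟩)
            ext r s
            fin_cases r <;> fin_cases s <;>
              simp [Matrix.scalar_apply, h01, hd11, (borelY_pow w β i).2.1, y]
          rintro ⟨a, b⟩ ⟨a', b'⟩ h
          simp only at h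
          have h' : (a' : H)⁻¹ * a = b' * (b : H)⁻¹ := by
            rw [inv_mul_eq_iff_eq_mul, ← mul_assoc, eq_mul_inv_iff_mul_eq]
            exact h
          have h1 := hdis _ (mul_mem (inv_mem a'.2) a.2) (h' ▸ mul_mem b'.2 (inv_mem b.2))
          have ha : (a : H) = a' := (inv_mul_eq_one.1 h1).symm
          rw [h1] at h'
          have hb : (b : H) = b' := (mul_inv_eq_one.1 h'.symm).symm
          exact Prod.ext (Subtype.ext ha) (Subtype.ext hb)
        have := Nat.card_le_card_of_injective _ hinj
        rwa [Nat.card_prod, Nat.card_zpowers, Nat.card_zpowers, hYk, hZk] at this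
      have hmul : Nat.card H ∣ Nat.card (PS F) := Subgroup.card_subgroup_dvd_card H
      by_cases hm1 : m = 1
      · rw [hm1, pow_one] at hm
        refine Subgroup.eq_top_of_card_eq _ (le_antisymm (Subgroup.card_le_card_group H) ?_)
        have e1 := gcd_mul_card_PS (F := F)
        have e2 := gcd_mul_card_PS (F := E)
        rcases hcard with h | h <;> rw [h]
        · rw [card_PG, hm, ← e1]
          exact Nat.le_mul_of_pos_left _ (Nat.gcd_pos_of_pos_left _ (by norm_num))
        · rw [show Fintype.card E = Fintype.card F from hm, ← e1] at e2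
          exact (Nat.eq_of_mul_eq_mul_left (Nat.gcd_pos_of_pos_left _ (by norm_num)) e2).ge
      · exfalso
        have hsq : c * c ≤ q := by
          rw [← pow_two, hq, ← hm]
          exact Nat.pow_le_pow_right (by omega) (by omega)
        have hc4 : c ≤ 4 := by
          by_contra hc5
          rw [not_le] at hc5
          obtain ⟨d, hd⟩ : ∃ d, c * c = d + 1 := ⟨c * c - 1, by
            have : 1 ≤ c * c := Nat.mul_pos (by omega) (by omega)
            omega⟩
          have h5 : 5 * c ≤ c * c := Nat.mul_le_mul_right c (by omega)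
          have h1 : d * d ≤ 4 * (c * d) := by
            have h2 : d * d ≤ (2 * k) * (2 * k) := Nat.mul_le_mul (by omega) (by omega)
            have h3 : k * k ≤ c * d := by
              have : c ^ 2 - 1 = d := by rw [pow_two]; omega
              rw [this] at hle
              exact hkk.trans hle
            calc d * d ≤ (2 * k) * (2 * k) := h2
              _ = 4 * (k * k) := by ring
              _ ≤ 4 * (c * d) := Nat.mul_le_mul_left 4 h3
          have : d ≤ 4 * c := Nat.le_of_mul_le_mul_right (h1.trans_eq (by ring)) (show 0 < d by omega)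
          omega
        have : 7 * 7 ≤ k * k := Nat.mul_le_mul hk7 hk7
        interval_cases c <;> first
          | omega
          | (have : 8 * 8 ≤ k * k := Nat.mul_le_mul (by omega) (by omega)
             omega)
  -- back to the special linear group
  refine eq_top_iff.2 ?_
  rw [← CfsgLib.Linear.commutator_SL_eq_top (F := F) (n := Fin 2) (by
    right; exact CfsgLib.Linear.exists_sq_ne_one_of_four_le_card (by rw [Nat.card_eq_fintype_card, ← hq]; omega))]
  rw [commutator_def, Subgroup.commutator_le]
  intro a _ b _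
  have lift : ∀ g, ∃ s ∈ S, ∃ c ∈ Subgroup.center (Matrix.SpecialLinearGroup (Fin 2) F), g = s * c := by
    intro g
    have : π g ∈ H := htop ▸ Subgroup.mem_top _
    obtain ⟨s, hs, he⟩ := this
    exact ⟨s, hs, s⁻¹ * g, (QuotientGroup.eq).1 he, by group⟩
  obtain ⟨s, hs, c, hc, rfl⟩ := lift a
  obtain ⟨t, ht, d, hd, rfl⟩ := lift b
  rw [Subgroup.mem_center_iff] at hc hd
  have : ⁅s * c, t * d⁆ = ⁅s, t⁆ := by
    simp only [commutatorElement_def]
    calc s * c * (t * d) * (s * c)⁻¹ * (t * d)⁻¹
        = s * (c * t) * d * c⁻¹ * s⁻¹ * d⁻¹ * t⁻¹ := by group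
      _ = s * t * (c * d) * c⁻¹ * s⁻¹ * d⁻¹ * t⁻¹ := by rw [← hc t]; group
      _ = s * t * (d * s⁻¹) * d⁻¹ * t⁻¹ := by rw [← hc d]; group
      _ = s * t * s⁻¹ * t⁻¹ := by rw [← hd s⁻¹]; group
  rw [this, commutatorElement_def]
  exact S.mul_mem (S.mul_mem (S.mul_mem hs ht) (S.inv_mem hs)) (S.inv_mem ht)

end CfsgLib.SLFewRels
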