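import Cfsg.Agent.Lib.SLFewRels.Good
import Mathlib.Algebra.QuadraticAlgebra.Basic

/-!
Good elements of the block for prime fields and the fields of four and nine elements.
-/

set_option autoImplicit false

namespace CfsgLib.SLFewRels

open Matrix
open CfsgLib.PresentSL3 (cT)

/-- The value of a word in two elements. -/
def evalWord {G : Type*} [Monoid G] (a b : G) (l : List Bool) : G := (l.map fun x => if x then a else b).prod

theorem map_evalWord {G H : Type*} [Monoid G] [Monoid H] (f : G →* H) (a b : G) (l : List Bool) :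
    f (evalWord a b l) = evalWord (f a) (f b) l := by
  rw [evalWord, evalWord, map_list_prod, List.map_map]
  congr 1
  refine List.map_congr_left fun x _ => ?_
  cases x <;> rfl

theorem evalWord_mem {G : Type*} [Group G] (a b : G) (l : List Bool) :
    evalWord a b l ∈ Subgroup.closure ({a, b} : Set G) := by
  refine Subgroup.list_prod_mem _ fun x hx => ?_
  obtain ⟨t, -, rfl⟩ := List.mem_map.1 hx
  cases t <;> exact Subgroup.subset_closure (by simp)

variable {F : Type*} [Field F]

theorem transvection_add {n : ℕ} {i j : Fin n} (hij : i ≠ j) (a b : F) :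
    Matrix.SpecialLinearGroup.transvection hij a * Matrix.SpecialLinearGroup.transvection hij b =
      Matrix.SpecialLinearGroup.transvection hij (a + b) :=
  Subtype.ext (Matrix.transvection_mul_transvection_same _ _ hij a b)

/-- Spanning by two elements gives the whole of `SL₂`. -/
theorem top_of_span (S : Subgroup (Matrix.SpecialLinearGroup (Fin 2) F)) (w : F)
    (hspan : ∀ c : F, ∃ i j : ℕ, c = i + j * w)
    (hu : Matrix.SpecialLinearGroup.transvection (show (0 : Fin 2) ≠ 1 by decide) (1 : F) ∈ S)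
    (huw : Matrix.SpecialLinearGroup.transvection (show (0 : Fin 2) ≠ 1 by decide) w ∈ S)
    (hl : Matrix.SpecialLinearGroup.transvection (show (1 : Fin 2) ≠ 0 by decide) (1 : F) ∈ S)
    (hlw : Matrix.SpecialLinearGroup.transvection (show (1 : Fin 2) ≠ 0 by decide) w ∈ S) : S = ⊤ := by
  have key : ∀ (a b : Fin 2) (hab : a ≠ b), Matrix.SpecialLinearGroup.transvection hab (1 : F) ∈ S →
      Matrix.SpecialLinearGroup.transvection hab w ∈ S →
      ∀ c, Matrix.SpecialLinearGroup.transvection hab c ∈ S := by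
    intro a b hab h1 h2
    have h0 : Matrix.SpecialLinearGroup.transvection hab (0 : F) = 1 :=
      Subtype.ext (Matrix.transvection_zero a b)
    have hm : ∀ (x : F), Matrix.SpecialLinearGroup.transvection hab x ∈ S →
        ∀ i : ℕ, Matrix.SpecialLinearGroup.transvection hab (i * x) ∈ S := by
      intro x hx i
      induction i with
      | zero => rw [Nat.cast_zero, zero_mul, h0]; exact S.one_mem
      | succ i ih => rw [Nat.cast_succ, add_mul, one_mul, ← transvection_add]; exact S.mul_mem ih hx
    intro c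
    obtain ⟨i, j, rfl⟩ := hspan c
    rw [← transvection_add]
    exact S.mul_mem (by simpa using hm 1 h1 i) (hm w h2 j)
  refine CfsgLib.Linear.SL_eq_top_of_transvection_mem _ fun a b hab c => ?_
  fin_cases a <;> fin_cases b <;> first | exact absurd rfl hab | skip
  · exact key _ _ _ hu huw c
  · exact key _ _ _ hl hlw c

/-- Prime fields. -/
theorem goodY_prime [Fintype F] (hp : (Fintype.card F).Prime) :
    ∃ y : Matrix.SpecialLinearGroup (Fin 2) F, GoodY y := by
  obtain ⟨p, hpF⟩ := CharP.exists F
  haveI : Fact p.Prime := ⟨CharP.char_is_prime F p⟩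
  obtain ⟨e, -, hF⟩ := FiniteField.card F p
  rw [hF] at hp
  have he : (e : ℕ) = 1 := (Nat.Prime.eq_one_of_pow hp)
  rw [he, pow_one] at hF
  have hall : ∀ c : F, ∃ i : ℕ, c = i := by
    intro c
    have hb := (Fintype.bijective_iff_injective_and_card (ZMod.castHom (dvd_refl p) F)).2
      ⟨(ZMod.castHom (dvd_refl p) F).injective, by rw [ZMod.card, hF]⟩
    obtain ⟨d, rfl⟩ := hb.2 c
    exact ⟨d.val, by rw [ZMod.castHom_apply, ← ZMod.natCast_val]⟩
  let y := Matrix.SpecialLinearGroup.transvection (show (0 : Fin 2) ≠ 1 by decide) (1 : F)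
  have hz : swapY y = Matrix.SpecialLinearGroup.transvection (show (1 : Fin 2) ≠ 0 by decide) (1 : F) := by
    apply Subtype.ext
    rw [coe_swapY]
    ext i j
    fin_cases i <;> fin_cases j <;>
      simp [y, Matrix.SpecialLinearGroup.transvection, Matrix.transvection, Matrix.single]
  refine ⟨y, top_of_span _ 1 ?_ ?_ ?_ ?_ ?_, ?_⟩
  · intro c
    obtain ⟨i, rfl⟩ := hall c
    exact ⟨i, 0, by simp⟩
  iterate 2 exact Subgroup.subset_closure (Set.mem_insert _ _)
  iterate 2 exact Subgroup.subset_closure (Set.mem_insert_of_mem _ hz.symm)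
  set K := Subgroup.closure ({cT, j2 y} : Set (Matrix.SpecialLinearGroup (Fin 3) F))
  have hc : cT ∈ K := Subgroup.subset_closure (by simp)
  have h01 : Matrix.SpecialLinearGroup.transvection (show (0 : Fin 3) ≠ 1 by decide) (1 : F) ∈ K := by
    rw [← j2_upper]; exact Subgroup.subset_closure (by simp [y])
  have h12 : Matrix.SpecialLinearGroup.transvection (show (1 : Fin 3) ≠ 2 by decide) (1 : F) ∈ K := by
    have := K.mul_mem (K.mul_mem hc h01) (K.inv_mem hc)
    rwa [CfsgLib.BoundedPres.cT_transvection] at this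
  have h20 : Matrix.SpecialLinearGroup.transvection (show (2 : Fin 3) ≠ 0 by decide) (1 : F) ∈ K := by
    have := K.mul_mem (K.mul_mem hc h12) (K.inv_mem hc)
    rwa [CfsgLib.BoundedPres.cT_transvection] at this
  have e := CfsgLib.BoundedPres.transvection_step (F := F) (show (1 : Fin 3) ≠ 2 by decide)
    (show (2 : Fin 3) ≠ 0 by decide) (show (1 : Fin 3) ≠ 0 by decide) 1 1
  rw [one_mul] at e
  have := K.mul_mem (K.mul_mem (K.mul_mem h12 h20) (K.inv_mem h12)) (K.inv_mem h20)
  rw [e] at this
  rw [hz, j2_lower]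
  simpa [mul_assoc] using this

/-- The model of the field of four elements. -/
abbrev F4 := QuadraticAlgebra (ZMod 2) 1 1

/-- The model of the field of nine elements. -/
abbrev F9 := QuadraticAlgebra (ZMod 3) 1 1

/-- Matrices of determinant one over the models. -/
def mk4 (a b c d : F4) (h : a * d - b * c = 1) : Matrix.SpecialLinearGroup (Fin 2) F4 :=
  ⟨!![a, b; c, d], by rw [Matrix.det_fin_two_of]; exact h⟩

/-- Matrices of determinant one over the models. -/
def mk9 (a b c d : F9) (h : a * d - b * c = 1) : Matrix.SpecialLinearGroup (Fin 2) F9 :=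
  ⟨!![a, b; c, d], by rw [Matrix.det_fin_two_of]; exact h⟩

/-- The element for four elements. -/
def y4 : Matrix.SpecialLinearGroup (Fin 2) F4 := mk4 1 1 ⟨0, 1⟩ ⟨1, 1⟩ (by decide)

/-- Its swap. -/
def z4 : Matrix.SpecialLinearGroup (Fin 2) F4 := mk4 ⟨1, 1⟩ ⟨0, 1⟩ 1 1 (by decide)

/-- The element for nine elements. -/
def y9 : Matrix.SpecialLinearGroup (Fin 2) F9 := mk9 ⟨0, 1⟩ ⟨0, 2⟩ 0 ⟨2, 1⟩ (by decide)

/-- Its swap. -/
def z9 : Matrix.SpecialLinearGroup (Fin 2) F9 := mk9 ⟨2, 1⟩ 0 ⟨0, 2⟩ ⟨0, 1⟩ (by decide)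

/-- A model block. -/
def block4 (g : Matrix.SpecialLinearGroup (Fin 2) F4) : Matrix (Fin 3) (Fin 3) F4 :=
  !![g.1 0 0, g.1 0 1, 0; g.1 1 0, g.1 1 1, 0; 0, 0, 1]

theorem words_four :
    (evalWord y4 z4 [false, false, true, false, true]).1 = !![1, 1; 0, 1] ∧
    (evalWord y4 z4 [true, true, false, true]).1 = !![1, ⟨0, 1⟩; 0, 1] ∧
    (evalWord y4 z4 [true, true, false, true, false]).1 = !![1, 0; 1, 1] ∧
    (evalWord y4 z4 [false, false, true, false]).1 = !![1, 0; ⟨0, 1⟩, 1] := by
  decide +kernel

theorem words_nine :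
    (evalWord y9 z9 [true, false, false, false, true, true, false, true, true, false]).1 = !![1, 1; 0, 1] ∧
    (evalWord y9 z9 [true, true, true, false, false, true, false]).1 = !![1, ⟨0, 1⟩; 0, 1] ∧
    (evalWord y9 z9 [false, true, true, true, false, false, true, false, false, true]).1 = !![1, 0; 1, 1] ∧
    (evalWord y9 z9 [false, false, false, true, true, false, true]).1 = !![1, 0; ⟨0, 1⟩, 1] := by
  decide +kernel

/-- The word for the swap in the large block; true is the element, false the rotation. -/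
def word4 : List Bool :=
  [true, true, false, true, true, true, true, false, true, false, true, true, true, true, false, true, false]

theorem word_block_four :
    evalWord (block4 y4) !![0, 0, 1; 1, 0, 0; 0, 1, 0] word4 = block4 z4 := by
  decide +kernel

/-- A square root of `w + 1` gives a map from the model. -/
theorem exists_model (p : ℕ) [Fact p.Prime] [CharP F p] (w : F) (hw : w * w = w + 1) :
    ∃ φ : QuadraticAlgebra (ZMod p) 1 1 →+* F, φ ⟨0, 1⟩ = w := by
  letI := ZMod.algebra F p
  refine ⟨(QuadraticAlgebra.lift (R := ZMod p) (a := 1) (b := 1) ⟨w, by simp [hw, add_comm]⟩).toRingHom, ?_⟩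
  simp [QuadraticAlgebra.lift]

/-- The span criterion in the image of a model. -/
theorem top_of_words {p : ℕ} {y z : Matrix.SpecialLinearGroup (Fin 2) (QuadraticAlgebra (ZMod p) 1 1)}
    (φ : QuadraticAlgebra (ZMod p) 1 1 →+* F) (w : F) (hφ : φ ⟨0, 1⟩ = w)
    (hspan : ∀ c : F, ∃ i j : ℕ, c = i + j * w) {l₁ l₂ l₃ l₄ : List Bool}
    (h₁ : (evalWord y z l₁).1 = !![1, 1; 0, 1]) (h₂ : (evalWord y z l₂).1 = !![1, ⟨0, 1⟩; 0, 1])
    (h₃ : (evalWord y z l₃).1 = !![1, 0; 1, 1]) (h₄ : (evalWord y z l₄).1 = !![1, 0; ⟨0, 1⟩, 1]) :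
    Subgroup.closure ({SpecialLinearGroup.map φ y, SpecialLinearGroup.map φ z} :
      Set (Matrix.SpecialLinearGroup (Fin 2) F)) = ⊤ := by
  have key : ∀ (l : List Bool) (T : Matrix.SpecialLinearGroup (Fin 2) F),
      φ.mapMatrix (evalWord y z l).1 = T.1 →
      T ∈ Subgroup.closure ({SpecialLinearGroup.map φ y, SpecialLinearGroup.map φ z} :
        Set (Matrix.SpecialLinearGroup (Fin 2) F)) := by
    intro l T h
    rw [show T = SpecialLinearGroup.map φ (evalWord y z l) from Subtype.ext h.symm, map_evalWord]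
    exact evalWord_mem _ _ _
  refine top_of_span _ w hspan (key l₁ _ ?_) (key l₂ _ ?_) (key l₃ _ ?_) (key l₄ _ ?_)
  all_goals
    simp only [h₁, h₂, h₃, h₄]
    ext i j
    fin_cases i <;> fin_cases j <;>
      simp [hφ, Matrix.SpecialLinearGroup.transvection, Matrix.transvection, Matrix.single]

end CfsgLib.SLFewRels
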